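import Cfsg.Agent.Omega.FOne.TvwBlock
import Cfsg.Agent.Omega.NatPair.Semi
import Cfsg.Agent.Mrg.Omega.Tools.OddFix
import Cfsg.Agent.Mrg.Omega.FOne.Rep
import Cfsg.Agent.Mrg.Omega.VP

-- merged: Cfsg.Agent.Mrg.Omega.FOne.AT.Sec
section

section


/-!
# THEOREM AT (bb OMEGA #19477, helper201): a module which is an extension of the natural `SL₂(F)`-module by a
trivial module

`l : SL₂(F) →* GL(W)`, `e : W → F²` equivariant and onto, `l` trivial on `ker e`, `F` of characteristic 2, `|F| > 2`: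
the torus gives a section `sg : F² → W` of `e` (equivariant for the torus and the Weyl element), and the root group
acts by `(x₀, x₁) ↦ (x₀ + b x₁, x₁) + τ(b x₁²)`.
-/

set_option autoImplicit false
set_option linter.unusedSectionVars false

namespace Cfsg.Agent.Omega.FOne.AT

open Cfsg.Agent.Lib.SL2Mat Cfsg.Agent.Omega.NatPair
open Cfsg.Agent.Omega.FOne.Tvw (addself z2 eq_of_add_eq_zero')

section field

variable {F : Type*} [Field F] [Fintype F] [DecidableEq F]

theorem sum_units_mul (h : ∃ ν : F, ν ≠ 0 ∧ ν ≠ 1) (x : F) : ∑ s : Fˣ, (s : F) * x = 0 := by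
  obtain ⟨ν, h0, h1⟩ := h
  have e : ∑ s : Fˣ, (s : F) * x = ν * ∑ s : Fˣ, (s : F) * x := by
    rw [Finset.mul_sum]
    refine (Fintype.sum_equiv (Equiv.mulLeft (Units.mk0 ν h0)) _ _ fun s => ?_).symm
    rw [Equiv.coe_mulLeft, Units.val_mul, Units.val_mk0, mul_assoc]
  have e2 : (ν - 1) * ∑ s : Fˣ, (s : F) * x = 0 := by linear_combination -e
  rcases mul_eq_zero.1 e2 with h2 | h2
  · exact absurd (sub_eq_zero.1 h2) h1
  · exact h2

theorem sum_units_inv_mul (h : ∃ ν : F, ν ≠ 0 ∧ ν ≠ 1) (x : F) : ∑ s : Fˣ, (s : F)⁻¹ * x = 0 := by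
  rw [← sum_units_mul h x]
  refine Fintype.sum_equiv (Equiv.inv Fˣ) _ _ fun s => ?_
  rw [Equiv.inv_apply, Units.val_inv_eq_inv_val]

theorem odd_units [CharP F 2] : Odd (Fintype.card Fˣ) := by
  have h1 : Fintype.card F = Fintype.card Fˣ + 1 := Fintype.card_eq_card_units_add_one F
  have h2 : ((Fintype.card F : ℕ) : F) = 0 := Nat.cast_card_eq_zero F
  have h3 : 2 ∣ Fintype.card F := (CharP.cast_eq_zero_iff F 2 _).1 h2
  rw [Nat.odd_iff]
  omega

end field

section two

variable {A : Type*} [AddCommGroup A] [Module (ZMod 2) A]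

theorem odd_nsmul {n : ℕ} (hn : Odd n) (w : A) : n • w = w := by
  obtain ⟨k, rfl⟩ := hn
  rw [add_smul, mul_smul, one_smul, two_smul, addself, zero_add]

end two

variable {W : Type*} [AddCommGroup W] [Module (ZMod 2) W] {F : Type*} [Field F]

/-- `l` is an action of `SL₂(F)` on `W`, `e : W → F²` is equivariant and onto, `l` is trivial on `ker e`. -/
structure Sl (l : Matrix.SpecialLinearGroup (Fin 2) F →* (W ≃ₗ[ZMod 2] W)) (e : W →+ (Fin 2 → F)) : Prop where
  act : ∀ A w, e (l A w) = ap A (e w)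
  tr : ∀ A w, e w = 0 → l A w = w
  sur : ∀ x, ∃ w, e w = x

variable {l : Matrix.SpecialLinearGroup (Fin 2) F →* (W ≃ₗ[ZMod 2] W)} {e : W →+ (Fin 2 → F)}

/-- the torus element -/
abbrev tor (s : Fˣ) : Matrix.SpecialLinearGroup (Fin 2) F := dg (s : F) s.ne_zero

theorem tor_mul (s t : Fˣ) : tor s * tor t = tor (s * t) := by
  refine ext_ent ?_ ?_ ?_ ?_ <;> simp [ent_mul, mul_comm]

theorem ap_tor (s : Fˣ) (x : Fin 2 → F) : ap (tor s) x = ![(s : F) * x 0, (s : F)⁻¹ * x 1] := by
  apply ext2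
  · rw [ap_zero']; simp
  · rw [ap_one']; simp

theorem l_mul (A B : Matrix.SpecialLinearGroup (Fin 2) F) (w : W) : l (A * B) w = l A (l B w) := by
  rw [map_mul]; rfl

theorem l_one (w : W) : l 1 w = w := by rw [map_one]; rfl

section torus

variable [Fintype F] [DecidableEq F]

/-- the sum over the torus -/
noncomputable def nn (l : Matrix.SpecialLinearGroup (Fin 2) F →* (W ≃ₗ[ZMod 2] W)) (w : W) : W :=
  ∑ s : Fˣ, l (tor s) w

theorem nn_add (v w : W) : nn l (v + w) = nn l v + nn l w := by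
  unfold nn
  rw [← Finset.sum_add_distrib]
  exact Finset.sum_congr rfl fun s _ => map_add _ _ _

/-- an element normalising the torus commutes with the sum -/
theorem nn_comm {A : Matrix.SpecialLinearGroup (Fin 2) F} {f : Fˣ ≃ Fˣ} (hf : ∀ s, A * tor s = tor (f s) * A) (w : W) :
    l A (nn l w) = nn l (l A w) := by
  unfold nn
  rw [map_sum]
  refine Fintype.sum_equiv f _ _ fun s => ?_
  rw [← l_mul, hf, l_mul]

theorem tor_comm (s : Fˣ) (w : W) : l (tor s) (nn l w) = nn l (l (tor s) w) :=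
  nn_comm (f := Equiv.refl _) (fun t => by rw [tor_mul, tor_mul, mul_comm]; rfl) w

/-- the Weyl element -/
abbrev wl : Matrix.SpecialLinearGroup (Fin 2) F := wm 1 one_ne_zero

theorem wl_comm (w : W) : l wl (nn l w) = nn l (l wl w) := by
  refine nn_comm (f := Equiv.inv Fˣ) (fun t => ?_) w
  refine ext_ent ?_ ?_ ?_ ?_ <;> simp [ent_mul]

end torus

namespace Sl

variable (h : Sl l e)
include h

variable [Fintype F] [DecidableEq F] (hν : ∃ ν : F, ν ≠ 0 ∧ ν ≠ 1)

include hν in
theorem e_nn (w : W) : e (nn l w) = 0 := by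
  unfold nn
  rw [map_sum]
  have h1 : ∀ s : Fˣ, e (l (tor s) w) = ![(s : F) * e w 0, (s : F)⁻¹ * e w 1] := fun s => by
    rw [h.act, ap_tor]
  simp only [h1]
  apply ext2
  · rw [Finset.sum_apply]
    exact sum_units_mul hν _
  · rw [Finset.sum_apply]
    exact sum_units_inv_mul hν _

variable [CharP F 2]

theorem nn_of {w : W} (hw : e w = 0) : nn l w = w := by
  unfold nn
  have h1 : ∀ s : Fˣ, l (tor s) w = w := fun s => h.tr _ _ hw
  simp only [h1]
  rw [Finset.sum_const, Finset.card_univ]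
  exact odd_nsmul odd_units w

/-- `w + N w` depends only on `e w` -/
theorem wd {v w : W} (he : e v = e w) : v + nn l v = w + nn l w := by
  have h1 : e (v - w) = 0 := by rw [map_sub, he, sub_self]
  have h2 := h.nn_of h1
  have h3 : nn l v = nn l (v - w) + nn l w := by rw [← nn_add, sub_add_cancel]
  rw [h3, h2]
  linear_combination (norm := module) addself v - addself w

end Sl

/-- **the section** `F² → W` given by the torus -/
noncomputable def sg (h : Sl l e) [Fintype F] [DecidableEq F] [CharP F 2] : (Fin 2 → F) →+ W :=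
  AddMonoidHom.mk' (fun x => (h.sur x).choose + nn l (h.sur x).choose) fun x y => by
    have h1 := (h.sur x).choose_spec
    have h2 := (h.sur y).choose_spec
    have h3 := (h.sur (x + y)).choose_spec
    have h4 : (h.sur (x + y)).choose + nn l (h.sur (x + y)).choose =
        ((h.sur x).choose + (h.sur y).choose) + nn l ((h.sur x).choose + (h.sur y).choose) :=
      h.wd (by rw [h3, map_add, h1, h2])
    change (h.sur (x + y)).choose + nn l (h.sur (x + y)).choose = _
    rw [h4, nn_add]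
    abel

namespace Sl

variable [Fintype F] [DecidableEq F] [CharP F 2] (h : Sl l e)

theorem sg_e (w : W) : sg h (e w) = w + nn l w :=
  h.wd (h.sur (e w)).choose_spec

theorem dec (w : W) : w = sg h (e w) + nn l w := by
  rw [sg_e]
  linear_combination (norm := module) -addself (nn l w)

include h in
theorem exists_dec (w : W) (hν : ∃ ν : F, ν ≠ 0 ∧ ν ≠ 1) : ∃ c, e c = 0 ∧ w = sg h (e w) + c :=
  ⟨nn l w, h.e_nn hν w, h.dec w⟩

variable (hν : ∃ ν : F, ν ≠ 0 ∧ ν ≠ 1)
include hν

theorem e_sg (x : Fin 2 → F) : e (sg h x) = x := by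
  obtain ⟨w, rfl⟩ := h.sur x
  rw [sg_e, map_add, h.e_nn hν, add_zero]

theorem nn_sg (x : Fin 2 → F) : nn l (sg h x) = 0 := by
  obtain ⟨w, rfl⟩ := h.sur x
  rw [sg_e, nn_add, h.nn_of (h.e_nn hν w), addself]

omit hν in
theorem tor_sg (s : Fˣ) (x : Fin 2 → F) : l (tor s) (sg h x) = sg h (ap (tor s) x) := by
  obtain ⟨w, rfl⟩ := h.sur x
  rw [sg_e, map_add, tor_comm, ← h.act, sg_e]

omit hν in
theorem wl_sg (x : Fin 2 → F) : l wl (sg h x) = sg h (ap wl x) := by
  obtain ⟨w, rfl⟩ := h.sur x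
  rw [sg_e, map_add, wl_comm, ← h.act, sg_e]

/-- the cocycle -/
theorem e_co (A : Matrix.SpecialLinearGroup (Fin 2) F) (x : Fin 2 → F) :
    e (l A (sg h x) + sg h (ap A x)) = 0 := by
  rw [map_add, h.act, h.e_sg hν, h.e_sg hν]
  funext i
  rw [Pi.add_apply]
  exact CharTwo.add_self_eq_zero _

theorem co_mul (A B : Matrix.SpecialLinearGroup (Fin 2) F) (x : Fin 2 → F) :
    l (A * B) (sg h x) + sg h (ap (A * B) x) =
      (l A (sg h (ap B x)) + sg h (ap A (ap B x))) + (l B (sg h x) + sg h (ap B x)) := by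
  have h1 := h.tr A _ (h.e_co hν B x)
  rw [map_add] at h1
  rw [l_mul, ap_mul]
  linear_combination (norm := module) h1 - addself (l A (sg h (ap B x)))

omit hν in
theorem co_one (x : Fin 2 → F) : l 1 (sg h x) + sg h (ap 1 x) = 0 := by
  rw [l_one, ap_one, addself]

omit hν in
theorem co_add (A : Matrix.SpecialLinearGroup (Fin 2) F) (x z : Fin 2 → F) :
    l A (sg h (x + z)) + sg h (ap A (x + z)) =
      (l A (sg h x) + sg h (ap A x)) + (l A (sg h z) + sg h (ap A z)) := by
  rw [ap_add, map_add, map_add, map_add]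
  abel

theorem co_up_zero (b x0 : F) : l (up b) (sg h ![x0, 0]) + sg h (ap (up b) ![x0, 0]) = 0 := by
  by_cases hb : b = 0
  · rw [hb, up_zero]
    exact h.co_one _
  have h1 := h.co_mul hν (up b) (up b) ![0, x0 / b]
  rw [up_mul, CharTwo.add_self_eq_zero, up_zero, co_one, ← co_add] at h1
  have h2 : ap (up b) ![0, x0 / b] + ![0, x0 / b] = ![x0, 0] := by
    apply ext2
    · rw [Pi.add_apply, ap_zero']
      simp [mul_div_cancel₀, hb]
    · rw [Pi.add_apply, ap_one']
      simp
      exact CharTwo.add_self_eq_zero _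
  rw [h2] at h1
  exact h1.symm

/-- **the map `τ`** -/
noncomputable def ta (h : Sl l e) (hν : ∃ ν : F, ν ≠ 0 ∧ ν ≠ 1) : F →+ W :=
  AddMonoidHom.mk' (fun s => l (up s) (sg h ![0, 1]) + sg h (ap (up s) ![0, 1])) fun s s' => by
    have h1 := h.co_mul hν (up s) (up s') ![0, 1]
    have h2 : ap (up s') ![0, 1] = ![s', 0] + ![0, 1] := by
      apply ext2
      · rw [Pi.add_apply, ap_zero']; simp
      · rw [Pi.add_apply, ap_one']; simp
    rw [up_mul, h2, co_add, co_up_zero _ hν, zero_add] at h1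
    change l (up (s + s')) (sg h ![0, 1]) + sg h (ap (up (s + s')) ![0, 1]) = _
    rw [h1, h2]

theorem e_ta (s : F) : e (ta h hν s) = 0 := h.e_co hν _ _

omit hν in
theorem ap_tor_up (t : Fˣ) (b : F) (x : Fin 2 → F) :
    ap (up ((t : F) ^ 2 * b)) (ap (tor t) x) = ap (tor t) (ap (up b) x) := by
  rw [← ap_mul, ← ap_mul, ← dg_up]

theorem co_tor (t : Fˣ) (b : F) (x : Fin 2 → F) :
    l (up ((t : F) ^ 2 * b)) (sg h (ap (tor t) x)) + sg h (ap (up ((t : F) ^ 2 * b)) (ap (tor t) x)) =
      l (up b) (sg h x) + sg h (ap (up b) x) := by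
  have h1 := h.tr (tor t) _ (h.e_co hν (up b) x)
  rw [map_add, tor_sg, ← ap_tor_up, ← l_mul, dg_up, l_mul, tor_sg] at h1
  exact h1

/-- **the action of the root group** -/
theorem up_sg (b : F) (x : Fin 2 → F) :
    l (up b) (sg h x) = sg h x + sg h ![b * x 1, 0] + ta h hν (b * x 1 ^ 2) := by
  have h1 : x = ![x 0, 0] + ![0, x 1] := by
    apply ext2 <;> simp
  have h2 : ap (up b) x = x + ![b * x 1, 0] := by
    apply ext2
    · rw [Pi.add_apply, ap_zero']; simp
    · rw [Pi.add_apply, ap_one']; simp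
  have h3 : l (up b) (sg h x) + sg h (ap (up b) x) = ta h hν (b * x 1 ^ 2) := by
    rw [h1, co_add, co_up_zero _ hν, zero_add]
    by_cases h4 : x 1 = 0
    · rw [h4]
      have h5 : (![0, 0] : Fin 2 → F) = 0 := by apply ext2 <;> simp
      have h6 : ap (up b) (0 : Fin 2 → F) = 0 := by
        apply ext2
        · rw [ap_zero']; simp
        · rw [ap_one']; simp
      simp [h5, h6]
    · have h5 := h.co_tor hν (Units.mk0 (x 1) h4) b ![0, x 1]
      have h6 : ap (tor (Units.mk0 (x 1) h4)) ![0, x 1] = ![0, 1] := by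
        rw [ap_tor]
        apply ext2
        · simp
        · simp [h4]
      rw [h6, Units.val_mk0] at h5
      rw [← h5]
      change ta h hν (x 1 ^ 2 * b) = _
      congr 1
      simp [mul_comm]
  rw [h2, map_add] at h3
  linear_combination (norm := module) h3 - addself (sg h x) - addself (sg h ![b * x 1, 0])

/-- the root group, on any vector -/
theorem up_ap (b : F) (w : W) :
    l (up b) w = w + sg h ![b * e w 1, 0] + ta h hν (b * e w 1 ^ 2) := by
  obtain ⟨c, hc, hw⟩ := h.exists_dec w hν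
  have h1 : l (up b) w = l (up b) (sg h (e w)) + c := by
    nth_rewrite 1 [hw]
    rw [map_add, h.tr _ c hc]
  rw [h1, h.up_sg hν]
  nth_rewrite 4 [hw]
  abel

end Sl

end Cfsg.Agent.Omega.FOne.AT

end

section


/-!
# THEOREM AT (bb OMEGA #19477, helper201), steps (2)-(5)

* `Cor` : `SL₂(F) ≤ H` acts on `W`, natural modulo the fixed vectors, `V ≤ W` an invariant subspace covering `F²`;
* `QQ` : the pairs `(η, ψ)` such that some `g ∈ H` is `1 + η` modulo `y`, `v ↦ v + ψ(e v) y` on `V`;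
* `exists_f` : one `r ∈ H`, trivial on `V` modulo `y` and moving a vector of the section, gives `f : W → F` and
  `χ : F → 𝔽₂` with `w ↦ w + (0, t f(w)) + χ(t w₀) y` in `H` for all `t`;
* `Cor.false` : contradiction with the non-existence of over-offenders in `O`.
-/

set_option autoImplicit false
set_option linter.unusedSectionVars false

namespace Cfsg.Agent.Omega.FOne.AT

open Cfsg.Agent.Lib.SL2Mat Cfsg.Agent.Omega.NatPair
open Cfsg.Agent.Omega.FOne.Tvw (Base addself z2 eq_of_add_eq_zero' ap_inv inv_ap)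

variable {W : Type*} [AddCommGroup W] [Module (ZMod 2) W] {F : Type*} [Field F]

/-- `{0, y}` -/
def Yy (y : W) : AddSubgroup W where
  carrier := {w | w = 0 ∨ w = y}
  zero_mem' := Or.inl rfl
  add_mem' := by
    rintro a b (rfl | rfl) (rfl | rfl)
    · left; rw [add_zero]
    · right; rw [zero_add]
    · right; rw [add_zero]
    · left; exact addself _
  neg_mem' := by
    rintro a (rfl | rfl)
    · left; rw [neg_zero]
    · right; exact neg_eq_of_add_eq_zero_left (addself _)

theorem mem_Yy {y w : W} : w ∈ Yy y ↔ w = 0 ∨ w = y := Iff.rfl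

theorem y_mem (y : W) : y ∈ Yy y := Or.inr rfl

theorem smul_y_mem (y : W) (c : ZMod 2) : c • y ∈ Yy y := by
  rcases z2 c with rfl | rfl
  · rw [zero_smul]; exact (Yy y).zero_mem
  · rw [one_smul]; exact y_mem y

theorem mod_iff {y a b : W} : a + b ∈ Yy y ↔ a = b ∨ a = b + y := by
  rw [mem_Yy]
  constructor
  · rintro (h | h)
    · exact Or.inl (eq_of_add_eq_zero' h)
    · right
      linear_combination (norm := module) h - addself b
  · rintro (rfl | rfl)
    · exact Or.inl (addself _)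
    · right
      linear_combination (norm := module) addself b

/-- the hypotheses of THEOREM AT on `SL₂(F) ≤ H` and `V` -/
structure Cor (H : Subgroup (W ≃ₗ[ZMod 2] W)) (y : W) (V : Submodule (ZMod 2) W)
    (l : Matrix.SpecialLinearGroup (Fin 2) F →* (W ≃ₗ[ZMod 2] W)) (e : W →+ (Fin 2 → F)) : Prop extends Sl l e where
  base : Base H y
  lH : ∀ A, l A ∈ H
  ey : e y = 0
  yV : y ∈ V
  lV : ∀ A, ∀ v ∈ V, l A v ∈ V
  surV : ∀ x, ∃ v ∈ V, e v = x

variable {H : Subgroup (W ≃ₗ[ZMod 2] W)} {y : W} {V : Submodule (ZMod 2) W}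
  {l : Matrix.SpecialLinearGroup (Fin 2) F →* (W ≃ₗ[ZMod 2] W)} {e : W →+ (Fin 2 → F)}

theorem Base.fixY {y : W} (b : Base H y) {g : W ≃ₗ[ZMod 2] W} (hg : g ∈ H) {a : W} (ha : a ∈ Yy y) : g a = a := by
  rcases ha with rfl | rfl
  · exact map_zero g
  · exact b.fix g hg

theorem Base.one_of {y : W} (b : Base H y) {g : W ≃ₗ[ZMod 2] W} (hg : g ∈ H) (h : ∀ w, g w + w ∈ Yy y) : g = 1 :=
  b.faith g hg fun w => mod_iff.1 (h w)

theorem Base.eq_of {y : W} (b : Base H y) {g g' : W ≃ₗ[ZMod 2] W} (hg : g ∈ H) (hg' : g' ∈ H)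
    (h : ∀ w, g w + g' w ∈ Yy y) : g = g' := by
  have h1 : g * g'⁻¹ = 1 := Base.one_of b (H.mul_mem hg (H.inv_mem hg')) fun w => by
    have h2 := h (g'⁻¹ w)
    rw [ap_inv] at h2
    exact h2
  exact mul_inv_eq_one.1 h1

/-- `ap A` as an additive map -/
def apH (A : Matrix.SpecialLinearGroup (Fin 2) F) : (Fin 2 → F) →+ (Fin 2 → F) :=
  AddMonoidHom.mk' (ap A) (ap_add A)

theorem apH_apply (A : Matrix.SpecialLinearGroup (Fin 2) F) (x : Fin 2 → F) : apH A x = ap A x := rfl

/-- `g ∈ GL(W)` as an additive map -/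
def lin (g : W ≃ₗ[ZMod 2] W) : W →+ W := (g : W →ₗ[ZMod 2] W).toAddMonoidHom

theorem lin_apply (g : W ≃ₗ[ZMod 2] W) (w : W) : lin g w = g w := rfl

namespace Cor

variable (h : Cor H y V l e)

/-- the pairs `(η, ψ)` such that some `g ∈ H` is `1 + η` modulo `y`, `v ↦ v + ψ(e v) y` on `V` -/
def QQ : AddSubmonoid ((W →+ W) × ((Fin 2 → F) →+ ZMod 2)) where
  carrier := {p | (∀ w, p.1 w ∈ V) ∧ (∀ v ∈ V, p.1 v ∈ Yy y) ∧
    ∃ g ∈ H, (∀ w, g w + w + p.1 w ∈ Yy y) ∧ ∀ v ∈ V, g v = v + p.2 (e v) • y}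
  zero_mem' := by
    refine ⟨fun w => V.zero_mem, fun v _ => (Yy y).zero_mem, 1, H.one_mem, fun w => ?_, fun v _ => ?_⟩
    · change w + w + 0 ∈ Yy y
      rw [add_zero, addself]
      exact (Yy y).zero_mem
    · change v = v + (0 : ZMod 2) • y
      rw [zero_smul, add_zero]
  add_mem' := by
    rintro ⟨η, ψ⟩ ⟨η', ψ'⟩ ⟨h1, h2, g, hg, h3, h4⟩ ⟨h1', h2', g', hg', h3', h4'⟩
    refine ⟨fun w => V.add_mem (h1 w) (h1' w), fun v hv => (Yy y).add_mem (h2 v hv) (h2' v hv),
      g * g', H.mul_mem hg hg', fun w => ?_, fun v hv => ?_⟩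
    · change g (g' w) + w + (η w + η' w) ∈ Yy y
      have a1 := h3 w
      have a2 := h3' w
      have a3 := h3 (η' w)
      have a4 := h2 _ (h1' w)
      have a5 : g (g' w + w + η' w) = g' w + w + η' w := Base.fixY h.base hg a2
      rw [map_add, map_add] at a5
      simp only at a1 a2 a3 a4 a5
      have a6 : g (g' w) + w + (η w + η' w) =
          (g' w + w + η' w) + (g w + w + η w) + (g (η' w) + η' w + η (η' w)) + η (η' w) := by
        linear_combination (norm := module) a5 - addself (g w) - addself (g (η' w)) - addself (η (η' w))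
      rw [a6]
      exact (Yy y).add_mem ((Yy y).add_mem ((Yy y).add_mem a2 a1) a3) a4
    · change g (g' v) = v + (ψ (e v) + ψ' (e v)) • y
      have a1 := h4 v hv
      have a2 := h4' v hv
      simp only at a1 a2
      rw [a2, map_add, map_smul, h.base.fix g hg, a1, add_smul]
      abel

theorem mem_QQ {η : W →+ W} {ψ : (Fin 2 → F) →+ ZMod 2} : (η, ψ) ∈ h.QQ ↔ (∀ w, η w ∈ V) ∧ (∀ v ∈ V, η v ∈ Yy y) ∧
    ∃ g ∈ H, (∀ w, g w + w + η w ∈ Yy y) ∧ ∀ v ∈ V, g v = v + ψ (e v) • y := Iff.rfl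

/-- faithfulness -/
theorem ps_zero {η : W →+ W} {ψ : (Fin 2 → F) →+ ZMod 2} (hm : (η, ψ) ∈ h.QQ) (h0 : ∀ w, η w ∈ Yy y) : ψ = 0 := by
  obtain ⟨-, -, g, hg, h3, h4⟩ := h.mem_QQ.1 hm
  have h5 : g = 1 := Base.one_of h.base hg fun w => by
    have := (Yy y).add_mem (h3 w) (h0 w)
    rwa [add_assoc, addself, add_zero] at this
  refine AddMonoidHom.ext fun x => ?_
  obtain ⟨v, hv, rfl⟩ := h.surV x
  have h6 := h4 v hv
  rw [h5] at h6
  change v = v + ψ (e v) • y at h6
  rcases z2 (ψ (e v)) with h7 | h7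
  · exact h7
  · rw [h7, one_smul] at h6
    exact absurd (left_eq_add.1 h6) h.base.y0

section sec

variable [Fintype F] [DecidableEq F] [CharP F 2]

theorem sg_mem (x : Fin 2 → F) : sg h.toSl x ∈ V := by
  obtain ⟨v, hv, rfl⟩ := h.surV x
  rw [Sl.sg_e]
  exact V.add_mem hv (V.sum_mem fun s _ => h.lV _ v hv)

include h in
/-- `[W, L] ≤ V` -/
theorem comm_mem (A : Matrix.SpecialLinearGroup (Fin 2) F) (hν : ∃ ν : F, ν ≠ 0 ∧ ν ≠ 1) (w : W) : l A w + w ∈ V := by
  obtain ⟨c, hc, hw⟩ := h.toSl.exists_dec w hν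
  have h1 : l A w + w = l A (sg h.toSl (e w)) + sg h.toSl (e w) := by
    have h2 : l A w = l A (sg h.toSl (e w)) + c := by
      nth_rewrite 1 [hw]
      rw [map_add, h.tr _ c hc]
    have h3 : l A w + w = l A (sg h.toSl (e w)) + c + (sg h.toSl (e w) + c) := by
      rw [h2]; nth_rewrite 2 [hw]; rfl
    rw [h3]
    linear_combination (norm := module) addself c
  rw [h1]
  exact V.add_mem (h.lV _ _ (h.sg_mem _)) (h.sg_mem _)

variable (hν : ∃ ν : F, ν ≠ 0 ∧ ν ≠ 1)
include hν

/-- conjugation by `l A` -/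
theorem conj_mem {η : W →+ W} {ψ : (Fin 2 → F) →+ ZMod 2} (hm : (η, ψ) ∈ h.QQ)
    (A : Matrix.SpecialLinearGroup (Fin 2) F) : ((lin (l A)).comp η, ψ.comp (apH A⁻¹)) ∈ h.QQ := by
  obtain ⟨h1, h2, g, hg, h3, h4⟩ := h.mem_QQ.1 hm
  have hA := h.lH A
  refine h.mem_QQ.2 ⟨fun w => h.lV A _ (h1 w), fun v hv => ?_, l A * g * (l A)⁻¹,
    H.mul_mem (H.mul_mem hA hg) (H.inv_mem hA), fun w => ?_, fun v hv => ?_⟩
  · change l A (η v) ∈ Yy y
    rw [Base.fixY h.base hA (h2 v hv)]
    exact h2 v hv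
  · change l A (g ((l A)⁻¹ w)) + w + l A (η w) ∈ Yy y
    set u := (l A)⁻¹ w with hu
    have hw : l A u = w := ap_inv _ _
    have e1 : u + w ∈ V := by
      have := h.comm_mem A⁻¹ hν w
      rwa [map_inv] at this
    have e2 := h2 _ e1
    rw [map_add] at e2
    have e3 := (Yy y).add_mem (h3 u) e2
    have e4 := Base.fixY h.base hA e3
    have e5 : l A (g u) + w + l A (η w) = g u + u + η u + (η u + η w) := by
      rw [map_add, map_add, map_add, map_add, hw] at e4
      linear_combination (norm := module) e4 - addself (l A (η u))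
    rw [e5]; exact e3
  · change l A (g ((l A)⁻¹ v)) = v + ψ (ap A⁻¹ (e v)) • y
    have e1 : (l A)⁻¹ v ∈ V := by
      have := h.lV A⁻¹ v hv
      rwa [map_inv] at this
    have e2 : e ((l A)⁻¹ v) = ap A⁻¹ (e v) := by
      have := h.act A⁻¹ v
      rwa [map_inv] at this
    rw [h4 _ e1, e2, map_add, ap_inv, map_smul, h.base.fix _ hA]

/-- **purification** -/
theorem pur {η : W →+ W} {ψ : (Fin 2 → F) →+ ZMod 2} (hm : (η, ψ) ∈ h.QQ) :
    ((sg h.toSl).comp (e.comp η), ψ) ∈ h.QQ := by
  have h1 : (η, ψ) + ∑ s : Fˣ, ((lin (l (tor s))).comp η, ψ.comp (apH (tor s)⁻¹)) ∈ h.QQ :=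
    h.QQ.add_mem hm (h.QQ.sum_mem fun s _ => h.conj_mem hν hm _)
  convert h1 using 1
  refine Prod.ext ?_ ?_
  · rw [Prod.fst_add, Prod.fst_sum]
    ext w
    rw [AddMonoidHom.add_apply, AddMonoidHom.finsetSum_apply]
    exact h.toSl.sg_e (η w)
  · rw [Prod.snd_add, Prod.snd_sum]
    refine AddMonoidHom.ext fun x => ?_
    rw [AddMonoidHom.add_apply, AddMonoidHom.finsetSum_apply]
    have h2 : ∑ s : Fˣ, (ψ.comp (apH (tor s)⁻¹)) x = 0 := by
      have h3 : ∀ s : Fˣ, (ψ.comp (apH (tor s)⁻¹)) x = ψ (ap (tor s⁻¹) x) := by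
        intro s
        have h4 : (tor s)⁻¹ = tor s⁻¹ := by
          refine inv_eq_of_mul_eq_one_right ?_
          rw [tor_mul, mul_inv_cancel]
          refine ext_ent ?_ ?_ ?_ ?_ <;> simp
        rw [h4]; rfl
      simp only [h3]
      rw [← map_sum]
      have h5 : ∑ s : Fˣ, ap (tor s⁻¹) x = 0 := by
        simp only [ap_tor]
        apply ext2
        · rw [Finset.sum_apply]
          refine Eq.trans ?_ (sum_units_inv_mul hν (x 0))
          exact Finset.sum_congr rfl fun s _ => by simp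
        · rw [Finset.sum_apply]
          refine Eq.trans ?_ (sum_units_mul hν (x 1))
          exact Finset.sum_congr rfl fun s _ => by simp
      rw [h5, map_zero]
    rw [h2, add_zero]

/-- the pairs `(γ, ψ)`, `γ : W → F²` -/
def PP (h : Cor H y V l e) (γ : W →+ (Fin 2 → F)) (ψ : (Fin 2 → F) →+ ZMod 2) : Prop :=
  ((sg h.toSl).comp γ, ψ) ∈ h.QQ

omit hν in
theorem PP.add {γ γ' : W →+ (Fin 2 → F)} {ψ ψ' : (Fin 2 → F) →+ ZMod 2} (h1 : h.PP γ ψ) (h2 : h.PP γ' ψ') :
    h.PP (γ + γ') (ψ + ψ') := by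
  have h3 := h.QQ.add_mem h1 h2
  unfold PP
  convert h3 using 1
  refine Prod.ext ?_ rfl
  ext w
  exact map_add (sg h.toSl) _ _

theorem PP.ap {γ : W →+ (Fin 2 → F)} {ψ : (Fin 2 → F) →+ ZMod 2} (h1 : h.PP γ ψ)
    (A : Matrix.SpecialLinearGroup (Fin 2) F) : h.PP ((apH A).comp γ) (ψ.comp (apH A⁻¹)) := by
  have h2 := h.pur hν (h.conj_mem hν h1 A)
  unfold PP
  convert h2 using 1
  refine Prod.ext ?_ rfl
  ext w
  change sg h.toSl (NatPair.ap A (γ w)) = sg h.toSl (e (l A (sg h.toSl (γ w))))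
  rw [h.act, h.toSl.e_sg hν]

end sec

end Cor

end Cfsg.Agent.Omega.FOne.AT

end

section


/-!
# (F1'), the minimal parabolic case: lifts are unique

`e : W → E` additive, `e y = 0`, `ker e` invariant under `H`.  An element of `H` which is trivial on `W / ker e` and on
`ker e / y` is `1`, because `O₂(H) = 1`.
-/

set_option autoImplicit false
set_option linter.unusedSectionVars false

namespace Cfsg.Agent.Omega.FOne.Act

open Cfsg.Agent.Omega.FOne.Tvw (Base addself z2 eq_of_add_eq_zero' ap_inv inv_ap)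
open Cfsg.Agent.Omega.FOne.AT

variable {W : Type*} [AddCommGroup W] [Module (ZMod 2) W] {E : Type*} [AddCommGroup E]

/-- `e : W → E`, trivial on `y`, with `H`-invariant kernel -/
structure Ek (H : Subgroup (W ≃ₗ[ZMod 2] W)) (y : W) (e : W →+ E) : Prop where
  base : Base H y
  ey : e y = 0
  kinv : ∀ h ∈ H, ∀ w, e w = 0 → e (h w) = 0

variable {H : Subgroup (W ≃ₗ[ZMod 2] W)} {y : W} {e : W →+ E}

theorem Base.ap_Yy {y : W} (b : Base H y) {g : W ≃ₗ[ZMod 2] W} (hg : g ∈ H) {a : W} (ha : a ∈ Yy y) : g a ∈ Yy y := by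
  rw [Base.fixY b hg ha]; exact ha

namespace Ek

variable (h : Ek H y e)
include h

theorem e_Yy {a : W} (ha : a ∈ Yy y) : e a = 0 := by
  rcases ha with rfl | rfl
  · exact map_zero e
  · exact h.ey

/-- the elements of `H`, trivial on `W / ker e` and on `ker e / y` -/
theorem uniq {g : W ≃ₗ[ZMod 2] W} (hg : g ∈ H) (h1 : ∀ w, e (g w) = e w)
    (h2 : ∀ w, e w = 0 → g w + w ∈ Yy y) : g = 1 := by
  have d0 : ∀ k : W ≃ₗ[ZMod 2] W, (∀ w, e (k w) = e w) → ∀ w, e (k w + w) = 0 := by
    intro k hk w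
    rw [map_add, hk, ← map_add, addself, map_zero]
  let N : Subgroup (W ≃ₗ[ZMod 2] W) :=
    { carrier := {k | k ∈ H ∧ (∀ w, e (k w) = e w) ∧ ∀ w, e w = 0 → k w + w ∈ Yy y}
      one_mem' := ⟨H.one_mem, fun w => rfl, fun w _ => by
        change w + w ∈ Yy y
        rw [addself]; exact (Yy y).zero_mem⟩
      mul_mem' := by
        rintro a b ⟨ha, ha1, ha2⟩ ⟨hb, hb1, hb2⟩
        refine ⟨H.mul_mem ha hb, fun w => ?_, fun w hw => ?_⟩
        · change e (a (b w)) = e w
          rw [ha1, hb1]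
        · change a (b w) + w ∈ Yy y
          have h3 := ha2 (b w) (by rw [hb1, hw])
          have h4 := (Yy y).add_mem h3 (hb2 w hw)
          have h5 : a (b w) + w = a (b w) + b w + (b w + w) := by
            linear_combination (norm := module) -addself (b w)
          rw [h5]; exact h4
      inv_mem' := by
        rintro a ⟨ha, ha1, ha2⟩
        refine ⟨H.inv_mem ha, fun w => ?_, fun w hw => ?_⟩
        · have := ha1 (a⁻¹ w)
          rw [ap_inv] at this
          exact this.symm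
        · have h3 := ha1 (a⁻¹ w)
          rw [ap_inv, hw] at h3
          have h4 := ha2 _ h3.symm
          rw [ap_inv, add_comm] at h4
          exact h4 }
  have hN2 : IsPGroup 2 N := by
    rintro ⟨k, hk, hk1, hk2⟩
    refine ⟨1, Subtype.ext ?_⟩
    change k ^ 2 ^ 1 = 1
    rw [pow_one, pow_two]
    refine Base.one_of h.base (H.mul_mem hk hk) fun w => ?_
    change k (k w) + w ∈ Yy y
    have h3 := hk2 _ (d0 k hk1 w)
    rw [map_add] at h3
    have h4 : k (k w) + w = k (k w) + k w + (k w + w) := by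
      linear_combination (norm := module) -addself (k w)
    rw [h4]; exact h3
  have hNn : ∀ x ∈ H, ∀ n ∈ N, x * n * x⁻¹ ∈ N := by
    rintro x hx n ⟨hn, hn1, hn2⟩
    refine ⟨H.mul_mem (H.mul_mem hx hn) (H.inv_mem hx), fun w => ?_, fun w hw => ?_⟩
    · change e (x (n (x⁻¹ w))) = e w
      have h3 := h.kinv x hx _ (d0 n hn1 (x⁻¹ w))
      rw [map_add, ap_inv, map_add] at h3
      have h4 : e w + e w = 0 := by rw [← map_add, addself, map_zero]
      have h5 : e (x (n (x⁻¹ w))) = e (x (n (x⁻¹ w))) + e w - e w := by abel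
      rw [h5, h3, zero_sub]
      exact neg_eq_of_add_eq_zero_left h4
    · change x (n (x⁻¹ w)) + w ∈ Yy y
      have h3 := Base.ap_Yy h.base hx (hn2 _ (h.kinv x⁻¹ (H.inv_mem hx) w hw))
      rw [map_add, ap_inv] at h3
      exact h3
  have hbot := h.base.core N (fun k hk => hk.1) hNn hN2
  have : g ∈ N := ⟨hg, h1, h2⟩
  rw [hbot] at this
  exact Subgroup.mem_bot.1 this

theorem uniq2 {g g' : W ≃ₗ[ZMod 2] W} (hg : g ∈ H) (hg' : g' ∈ H) (h1 : ∀ w, e (g w) = e (g' w))
    (h2 : ∀ w, e w = 0 → g w + w ∈ Yy y) (h2' : ∀ w, e w = 0 → g' w + w ∈ Yy y) : g = g' := by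
  have h3 : g * g'⁻¹ = 1 := h.uniq (H.mul_mem hg (H.inv_mem hg')) (fun w => by
    change e (g (g'⁻¹ w)) = e w
    rw [h1, ap_inv]) fun w hw => by
      change g (g'⁻¹ w) + w ∈ Yy y
      have h4 := h.kinv g'⁻¹ (H.inv_mem hg') w hw
      have h5 := h2 _ h4
      have h6 := h2' _ h4
      rw [ap_inv] at h6
      have h7 : g (g'⁻¹ w) + w = g (g'⁻¹ w) + g'⁻¹ w + (w + g'⁻¹ w) := by
        linear_combination (norm := module) -addself (g'⁻¹ w)
      rw [h7]
      exact (Yy y).add_mem h5 h6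
  exact mul_inv_eq_one.1 h3

end Ek

end Cfsg.Agent.Omega.FOne.Act

end

section


/-!
# (F1'), the minimal parabolic case: `(W / y) / C(O²(H))` is a sum of natural `SL₂(F)`-modules

Then `T` does not swap `θ`, `θ + y`.
-/

set_option autoImplicit false
set_option linter.unusedSectionVars false

namespace Cfsg.Agent.Omega.FOne.Act

open Cfsg.Agent.Lib.SL2Mat Cfsg.Agent.Omega.NatPair
open Cfsg.Agent.Omega.FOne.Tvw (Base addself z2 eq_of_add_eq_zero' ap_inv inv_ap)
open Cfsg.Agent.Omega.FOne.AT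

variable {W : Type*} [AddCommGroup W] [Module (ZMod 2) W] {F : Type*} [Field F] {k : ℕ}

/-- the conclusion of the FF theorem in the natural case, for `W / y` -/
structure NatW (H : Subgroup (W ≃ₗ[ZMod 2] W)) (y : W) (T : Subgroup (W ≃ₗ[ZMod 2] W))
    (e : W →+ (Fin k → Fin 2 → F)) : Prop extends Ek H y e where
  TH : T ≤ H
  surj : ∀ x, ∃ w, e w = x
  lift : ∀ A : Fin k → Matrix.SpecialLinearGroup (Fin 2) F, ∃ g ∈ H, (∀ w i, e (g w) i = ap (A i) (e w i)) ∧
    ∀ w, e w = 0 → g w + w ∈ Yy y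
  norm : ∀ g ∈ H, ∀ h ∈ H, ∀ A : Fin k → Matrix.SpecialLinearGroup (Fin 2) F,
    (∀ w i, e (h w) i = ap (A i) (e w i)) →
      ∃ B : Fin k → Matrix.SpecialLinearGroup (Fin 2) F, ∀ w i, e ((g * h * g⁻¹) w) i = ap (B i) (e w i)
  line : ∀ t ∈ T, ∃ σ : Equiv.Perm (Fin k), ∀ w i, e (t w) (σ i) 1 = 0 ↔ e w i 1 = 0
  unip : ∀ b : Fin k → F, ∃ t ∈ T, (∀ w i, e (t w) i = ap (up (b i)) (e w i)) ∧ ∀ w, e w = 0 → t w + w ∈ Yy y

/-- commutators fix more -/
theorem comm_fix {X Y : W ≃ₗ[ZMod 2] W} {w : W} {C : AddSubgroup W} (hX : ∀ c ∈ C, X c = c) (hY : ∀ c ∈ C, Y c = c)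
    (h1 : X w + w ∈ C) (h2 : Y w + w ∈ C) : (X * Y * X⁻¹ * Y⁻¹) w = w := by
  have key : ∀ {Z : W ≃ₗ[ZMod 2] W}, (∀ c ∈ C, Z c = c) → Z w + w ∈ C → Z⁻¹ w = w + (Z w + w) := by
    intro Z hZ hz
    have h3 : Z (w + (Z w + w)) = w := by
      rw [map_add, hZ _ hz]
      linear_combination (norm := module) addself (Z w)
    have h4 := congrArg (fun v => Z⁻¹ v) h3
    simp only [inv_ap] at h4
    exact h4.symm
  obtain ⟨α, hα⟩ : ∃ α, α = X w + w := ⟨_, rfl⟩
  obtain ⟨β, hβ⟩ : ∃ β, β = Y w + w := ⟨_, rfl⟩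
  have eX : X w = w + α := by rw [hα]; linear_combination (norm := module) -addself w
  have eY : Y w = w + β := by rw [hβ]; linear_combination (norm := module) -addself w
  have iX := key hX h1
  have iY := key hY h2
  rw [← hα] at iX h1
  rw [← hβ] at iY h2
  have fX : X⁻¹ β = β := by
    have := congrArg (fun v => X⁻¹ v) (hX β h2)
    simp only [inv_ap] at this
    exact this.symm
  change X (Y (X⁻¹ (Y⁻¹ w))) = w
  have e1 : Y (w + α + β) = w + α := by
    rw [map_add, map_add, eY, hY α h1, hY β h2]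
    linear_combination (norm := module) addself β
  rw [iY, map_add, iX, fX, e1, map_add, eX, hX α h1]
  linear_combination (norm := module) addself α

/-- `|F| > 2`: every element of `SL₂(F)` is a product of four commutators -/
theorem up_comm [CharP F 2] {ν : F} (h0 : ν ≠ 0) (h1 : ν ≠ 1) (b : F) :
    up b = dg ν h0 * up (b / (ν ^ 2 - 1)) * (dg ν h0)⁻¹ * (up (b / (ν ^ 2 - 1)))⁻¹ := by
  have hn : ν ^ 2 - 1 ≠ 0 := by
    intro h
    have h2 : (ν + 1) * (ν + 1) = 0 := by
      have h3 := CharTwo.add_self_eq_zero ν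
      have h4 := CharTwo.add_self_eq_zero (1 : F)
      linear_combination h + h3 + h4
    have h5 := mul_self_eq_zero.1 h2
    exact h1 (CharTwo.add_eq_zero.1 h5)
  rw [dg_up, mul_inv_cancel_right, up_inv, up_mul]
  congr 1
  field_simp
  ring

theorem lo_comm [CharP F 2] {ν : F} (h0 : ν ≠ 0) (h1 : ν ≠ 1) (b : F) :
    ∃ X Y : Matrix.SpecialLinearGroup (Fin 2) F, lo b = X * Y * X⁻¹ * Y⁻¹ := by
  have h2 : lo b = wm 1 one_ne_zero * up (-b) * (wm 1 one_ne_zero)⁻¹ := by
    rw [wm_up, mul_inv_cancel_right]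
    congr 1
    simp
  refine ⟨wm 1 one_ne_zero * dg ν h0 * (wm 1 one_ne_zero)⁻¹,
    wm 1 one_ne_zero * up (-b / (ν ^ 2 - 1)) * (wm 1 one_ne_zero)⁻¹, ?_⟩
  rw [h2, up_comm h0 h1 (-b)]
  group

namespace NatW

variable {H : Subgroup (W ≃ₗ[ZMod 2] W)} {y : W} {T : Subgroup (W ≃ₗ[ZMod 2] W)} {e : W →+ (Fin k → Fin 2 → F)}
variable (h : NatW H y T e)

/-- the lift of `SL₂(F)^k` -/
noncomputable def L : (Fin k → Matrix.SpecialLinearGroup (Fin 2) F) →* (W ≃ₗ[ZMod 2] W) :=
  MonoidHom.mk' (fun A => (h.lift A).choose) fun A B => by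
    obtain ⟨h1, h2, h3⟩ := (h.lift (A * B)).choose_spec
    obtain ⟨a1, a2, a3⟩ := (h.lift A).choose_spec
    obtain ⟨b1, b2, b3⟩ := (h.lift B).choose_spec
    refine h.toEk.uniq2 h1 (H.mul_mem a1 b1) (fun w => ?_) h3 fun w hw => ?_
    · funext i
      change _ = e ((h.lift A).choose ((h.lift B).choose w)) i
      rw [h2, a2, b2, Pi.mul_apply, ap_mul]
    · change (h.lift A).choose ((h.lift B).choose w) + w ∈ Yy y
      have h4 := b3 w hw
      have h5 := a3 ((h.lift B).choose w) (h.kinv _ b1 w hw)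
      have h6 : (h.lift A).choose ((h.lift B).choose w) + w =
          (h.lift A).choose ((h.lift B).choose w) + (h.lift B).choose w + ((h.lift B).choose w + w) := by
        linear_combination (norm := module) -addself ((h.lift B).choose w)
      rw [h6]
      exact (Yy y).add_mem h5 h4

theorem L_mem (A : Fin k → Matrix.SpecialLinearGroup (Fin 2) F) : h.L A ∈ H := (h.lift A).choose_spec.1

theorem L_e (A : Fin k → Matrix.SpecialLinearGroup (Fin 2) F) (w : W) (i : Fin k) :
    e (h.L A w) i = ap (A i) (e w i) := (h.lift A).choose_spec.2.1 w i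

theorem L_Yy (A : Fin k → Matrix.SpecialLinearGroup (Fin 2) F) {w : W} (hw : e w = 0) : h.L A w + w ∈ Yy y :=
  (h.lift A).choose_spec.2.2 w hw

/-- a lift is `L` -/
theorem eq_L {g : W ≃ₗ[ZMod 2] W} (hg : g ∈ H) {A : Fin k → Matrix.SpecialLinearGroup (Fin 2) F}
    (h1 : ∀ w i, e (g w) i = ap (A i) (e w i)) (h2 : ∀ w, e w = 0 → g w + w ∈ Yy y) : g = h.L A :=
  h.toEk.uniq2 hg (h.L_mem A) (fun w => funext fun i => by rw [h1, L_e]) h2 fun w hw => h.L_Yy A hw

/-- conjugates of `L A` -/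
theorem conj_L {g : W ≃ₗ[ZMod 2] W} (hg : g ∈ H) (A : Fin k → Matrix.SpecialLinearGroup (Fin 2) F) :
    ∃ B, g * h.L A * g⁻¹ = h.L B := by
  obtain ⟨B, hB⟩ := h.norm g hg _ (h.L_mem A) A (h.L_e A)
  refine ⟨B, h.eq_L (H.mul_mem (H.mul_mem hg (h.L_mem A)) (H.inv_mem hg)) hB fun w hw => ?_⟩
  change g (h.L A (g⁻¹ w)) + w ∈ Yy y
  have h1 := Base.ap_Yy h.base hg (h.L_Yy A (h.kinv g⁻¹ (H.inv_mem hg) w hw))
  rw [map_add, ap_inv] at h1
  exact h1

theorem L_inj : Function.Injective h.L := by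
  intro A B hAB
  funext i
  have key : ∀ x : Fin 2 → F, ap (A i) x = ap (B i) x := by
    intro x
    obtain ⟨w, hw⟩ := h.surj fun _ => x
    have h1 := h.L_e A w i
    rw [hAB, h.L_e B w i, hw] at h1
    exact h1.symm
  have h0 := key ![1, 0]
  have h1 := key ![0, 1]
  have a0 := congrFun h0 0
  have a1 := congrFun h0 1
  have b0 := congrFun h1 0
  have b1 := congrFun h1 1
  simp only [ap_zero', ap_one', Matrix.cons_val_zero, Matrix.cons_val_one, mul_one, mul_zero, add_zero,
    zero_add] at a0 a1 b0 b1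
  exact ext_ent a0 b0 a1 b1

/-- `|F| > 2`: the lift is trivial on the kernel of `e` -/
theorem tr0 [CharP F 2] (hν : ∃ ν : F, ν ≠ 0 ∧ ν ≠ 1) (A : Fin k → Matrix.SpecialLinearGroup (Fin 2) F) {w : W}
    (hw : e w = 0) : h.L A w = w := by
  obtain ⟨ν, h0, h1⟩ := hν
  have hC : ∀ A, ∀ c ∈ Yy y, h.L A c = c := fun A c hc => Base.fixY h.base (h.L_mem A) hc
  have hcomm : ∀ X Y : Fin k → Matrix.SpecialLinearGroup (Fin 2) F, h.L (X * Y * X⁻¹ * Y⁻¹) w = w := by
    intro X Y
    rw [map_mul, map_mul, map_mul, map_inv, map_inv]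
    exact comm_fix (hC X) (hC Y) (h.L_Yy X hw) (h.L_Yy Y hw)
  have hup : ∀ b : Fin k → F, h.L (fun i => up (b i)) w = w := by
    intro b
    have := hcomm (fun _ => dg ν h0) (fun i => up (b i / (ν ^ 2 - 1)))
    have e1 : (fun i => up (b i)) = (fun _ : Fin k => dg ν h0) * (fun i => up (b i / (ν ^ 2 - 1))) *
        (fun _ : Fin k => dg ν h0)⁻¹ * (fun i => up (b i / (ν ^ 2 - 1)))⁻¹ := by
      funext i
      exact up_comm h0 h1 (b i)
    rw [e1]; exact this
  have hlo : ∀ b : Fin k → F, h.L (fun i => lo (b i)) w = w := by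
    intro b
    choose X Y hXY using fun i => lo_comm h0 h1 (b i)
    have e1 : (fun i => lo (b i)) = X * Y * X⁻¹ * Y⁻¹ := by
      funext i
      exact hXY i
    rw [e1]; exact hcomm X Y
  choose a b c d hA using fun i => exists_up_lo (A i)
  have e1 : A = (fun i => up (a i)) * (fun i => lo (b i)) * (fun i => up (c i)) * fun i => lo (d i) := by
    funext i
    exact hA i
  rw [e1, map_mul, map_mul, map_mul]
  change h.L _ (h.L _ (h.L _ (h.L _ w))) = w
  rw [hlo, hup, hlo, hup]

/-- the kernel of `e` as an additive group -/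
theorem L_one_block [CharP F 2] (hν : ∃ ν : F, ν ≠ 0 ∧ ν ≠ 1) (i : Fin k) (A : Matrix.SpecialLinearGroup (Fin 2) F)
    {w : W} (hw : e w i = 0) : h.L (Pi.mulSingle i A) w = w := by
  classical
  have hν' := hν
  obtain ⟨ν, h0, h1⟩ := hν
  have hC : ∀ A, ∀ c ∈ e.ker, h.L A c = c := fun A c hc => h.tr0 hν' A (AddMonoidHom.mem_ker.1 hc)
  have hm : ∀ A, h.L (Pi.mulSingle i A) w + w ∈ e.ker := by
    intro A
    rw [AddMonoidHom.mem_ker, map_add]
    funext j
    rw [Pi.add_apply, h.L_e]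
    by_cases hj : j = i
    · subst hj
      rw [hw]
      simp only [Pi.mulSingle_eq_same, Pi.zero_apply, add_zero]
      apply ext2
      · rw [ap_zero']; simp
      · rw [ap_one']; simp
    · rw [Pi.mulSingle_eq_of_ne hj, ap_one]
      funext x
      rw [Pi.add_apply]
      exact CharTwo.add_self_eq_zero _
  have hcomm : ∀ X Y : Matrix.SpecialLinearGroup (Fin 2) F, h.L (Pi.mulSingle i (X * Y * X⁻¹ * Y⁻¹)) w = w := by
    intro X Y
    rw [Pi.mulSingle_mul, Pi.mulSingle_mul, Pi.mulSingle_mul, Pi.mulSingle_inv, Pi.mulSingle_inv, map_mul, map_mul,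
      map_mul, map_inv, map_inv]
    exact comm_fix (hC _) (hC _) (hm X) (hm Y)
  have hup : ∀ b : F, h.L (Pi.mulSingle i (up b)) w = w := fun b => by
    rw [up_comm h0 h1 b]; exact hcomm _ _
  have hlo : ∀ b : F, h.L (Pi.mulSingle i (lo b)) w = w := fun b => by
    obtain ⟨X, Y, hXY⟩ := lo_comm h0 h1 b
    rw [hXY]; exact hcomm _ _
  obtain ⟨a, b, c, d, rfl⟩ := exists_up_lo A
  rw [Pi.mulSingle_mul, Pi.mulSingle_mul, Pi.mulSingle_mul, map_mul, map_mul, map_mul]
  change h.L _ (h.L _ (h.L _ (h.L _ w))) = w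
  rw [hlo, hup, hlo, hup]

/-- the `i`-th factor -/
noncomputable def l (i : Fin k) : Matrix.SpecialLinearGroup (Fin 2) F →* (W ≃ₗ[ZMod 2] W) :=
  h.L.comp (MonoidHom.mulSingle (fun _ => Matrix.SpecialLinearGroup (Fin 2) F) i)

theorem l_apply (i : Fin k) (A : Matrix.SpecialLinearGroup (Fin 2) F) : h.l i A = h.L (Pi.mulSingle i A) := rfl

theorem sl [CharP F 2] (hν : ∃ ν : F, ν ≠ 0 ∧ ν ≠ 1) (i : Fin k) :
    Sl (h.l i) ((Pi.evalAddMonoidHom (fun _ : Fin k => Fin 2 → F) i).comp e) where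
  act := by
    intro A w
    change e (h.L (Pi.mulSingle i A) w) i = ap A (e w i)
    rw [h.L_e, Pi.mulSingle_eq_same]
  tr := fun A w hw => h.L_one_block hν i A hw
  sur := by
    intro x
    obtain ⟨w, hw⟩ := h.surj fun _ => x
    exact ⟨w, by change e w i = x; rw [hw]⟩

end NatW

end Cfsg.Agent.Omega.FOne.Act

end

section


/-!
# (F1'), the minimal parabolic case: the natural case is impossible
-/

set_option autoImplicit false
set_option linter.unusedSectionVars false

namespace Cfsg.Agent.Omega.FOne.Act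

open Subgroup
open Cfsg.Agent.Lib.SL2Mat Cfsg.Agent.Omega.NatPair
open Cfsg.Agent.Omega.FOne.Tvw (Base addself z2 eq_of_add_eq_zero' ap_inv inv_ap)
open Cfsg.Agent.Omega.FOne.AT

/-- `T ∩ N` is a Sylow 2-subgroup of the normal subgroup `N`. -/
theorem not_dvd_inf {G : Type*} [Group G] [Finite G] {H T N : Subgroup G} (hTH : T ≤ H) (hTS : ¬ 2 ∣ T.relIndex H)
    (hNH : N ≤ H) (hN : H ≤ normalizer (N : Set G)) : ¬ 2 ∣ (T ⊓ N).relIndex N := by
  rw [inf_comm]
  have hn : (N.subgroupOf H).Normal := normal_subgroupOf_of_le_normalizer hN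
  have h1 : N.relIndex (N ⊔ T) = N.relIndex T := by
    have h := Subgroup.relIndex_sup_left (K := N.subgroupOf H) (H := T.subgroupOf H)
    rw [← Subgroup.subgroupOf_sup hNH hTH, Subgroup.relIndex_subgroupOf (sup_le hNH hTH),
      Subgroup.relIndex_subgroupOf hTH] at h
    exact h
  have h2 := Subgroup.relIndex_mul_relIndex (N ⊓ T) N (N ⊔ T) inf_le_left le_sup_left
  have h3 := Subgroup.relIndex_mul_relIndex (N ⊓ T) T (N ⊔ T) inf_le_right le_sup_right
  have h4 : (N ⊓ T).relIndex T = N.relIndex T := Subgroup.inf_relIndex_right N T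
  rw [h1] at h2
  rw [h4, ← h2, mul_comm] at h3
  have h5 : T.relIndex (N ⊔ T) = (N ⊓ T).relIndex N :=
    Nat.eq_of_mul_eq_mul_right (Nat.pos_of_ne_zero (Subgroup.index_ne_zero_of_finite
      (H := N.subgroupOf T))) h3
  intro h
  have h6 := Subgroup.relIndex_mul_relIndex T (N ⊔ T) H le_sup_right (sup_le hNH hTH)
  exact hTS (h6 ▸ (h5 ▸ h : 2 ∣ T.relIndex (N ⊔ T)).mul_right _)

theorem normalizer_of {G : Type*} [Group G] {H N : Subgroup G} (h : ∀ g ∈ H, ∀ n ∈ N, g * n * g⁻¹ ∈ N) :
    H ≤ normalizer (N : Set G) := by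
  intro g hg
  rw [mem_normalizer_iff]
  intro n
  constructor
  · exact h g hg n
  · intro hn
    have := h g⁻¹ (H.inv_mem hg) _ hn
    have e1 : g⁻¹ * (g * n * g⁻¹) * g⁻¹⁻¹ = n := by group
    rwa [e1] at this

section field

variable {F : Type*} [Field F]

theorem one_of_pow [CharP F 2] : ∀ (k : ℕ) (a : F), a ^ 2 ^ k = 1 → a = 1 := by
  intro k
  induction k with
  | zero => intro a ha; simpa using ha
  | succ k ih =>
    intro a ha
    have h6 : (a ^ 2 ^ k + 1) * (a ^ 2 ^ k + 1) = 0 := by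
      have h7 : a ^ 2 ^ (k + 1) = a ^ 2 ^ k * a ^ 2 ^ k := by rw [pow_succ, pow_mul, sq]
      have h8 := CharTwo.add_self_eq_zero (a ^ 2 ^ k)
      have h9 := CharTwo.add_self_eq_zero (1 : F)
      rw [h7] at ha
      linear_combination ha + h8 + h9
    exact ih a (CharTwo.add_eq_zero.1 (mul_self_eq_zero.1 h6))

theorem ent_pow {A : Matrix.SpecialLinearGroup (Fin 2) F} (h : ent A 1 0 = 0) :
    ∀ n : ℕ, ent (A ^ n) 0 0 = ent A 0 0 ^ n ∧ ent (A ^ n) 1 0 = 0 := by
  intro n
  induction n with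
  | zero => exact ⟨by rw [pow_zero, pow_zero]; rfl, by rw [pow_zero]; rfl⟩
  | succ n ih =>
    rw [pow_succ, ent_mul, ent_mul, ih.1, ih.2, h]
    constructor
    · rw [mul_zero, add_zero, pow_succ]
    · ring

/-- a 2-element preserving the line is upper unitriangular -/
theorem eq_up [CharP F 2] {A : Matrix.SpecialLinearGroup (Fin 2) F} (h : ent A 1 0 = 0) {n : ℕ}
    (hn : A ^ 2 ^ n = 1) : A = up (ent A 0 1) := by
  have h1 := (ent_pow h (2 ^ n)).1
  rw [hn, ent_one_00] at h1
  have h2 := one_of_pow n _ h1.symm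
  have h3 := det_eq A
  rw [h, h2] at h3
  refine ext_ent ?_ ?_ ?_ ?_
  · rw [up_00, h2]
  · rw [up_01]
  · rw [up_10, h]
  · rw [up_11]; linear_combination h3

end field

variable {W : Type*} [AddCommGroup W] [Module (ZMod 2) W] {F : Type*} [Field F] {k : ℕ}

namespace NatW

variable {H : Subgroup (W ≃ₗ[ZMod 2] W)} {y : W} {T : Subgroup (W ≃ₗ[ZMod 2] W)} {e : W →+ (Fin k → Fin 2 → F)}
variable (h : NatW H y T e)
include h

/-- `|F| > 2` -/
theorem false_big [Finite W] [Fintype F] [DecidableEq F] [CharP F 2] (hν : ∃ ν : F, ν ≠ 0 ∧ ν ≠ 1) (hk : 0 < k)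
    (two : IsPGroup 2 T) (syl : ¬ 2 ∣ T.relIndex H) (fix : ∀ w, (∀ t ∈ T, t w = w) → w = 0 ∨ w = y) {θ : W}
    (Tθ : ∀ t ∈ T, t θ + θ ∈ Yy y)
    (gen : ∀ U : Submodule (ZMod 2) W, y ∈ U → (∀ x ∈ H, x θ ∈ U) → U = ⊤) : False := by
  classical
  have hfin : Finite (W ≃ₗ[ZMod 2] W) := DFunLike.finite _
  set K : Subgroup (W ≃ₗ[ZMod 2] W) := h.L.range with hKd
  have hKH : K ≤ H := by
    rintro _ ⟨A, rfl⟩
    exact h.L_mem A
  have hKn : ∀ g ∈ H, ∀ x ∈ K, g * x * g⁻¹ ∈ K := by
    rintro g hg _ ⟨A, rfl⟩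
    obtain ⟨B, hB⟩ := h.conj_L hg A
    exact ⟨B, hB.symm⟩
  have hodd := not_dvd_inf h.TH syl hKH (normalizer_of hKn)
  have eT : ∀ t ∈ T, e (t θ) = e θ := fun t ht => by
    have h1 := h.toEk.e_Yy (Tθ t ht)
    rw [map_add] at h1
    funext i x
    have h2 := congrFun (congrFun h1 i) x
    exact CharTwo.add_eq_zero.1 h2
  -- `θ` is on the lines
  have hθ1 : ∀ i, e θ i 1 = 0 := by
    intro i
    obtain ⟨t, ht, h1, -⟩ := h.unip fun _ => 1
    have h2 := h1 θ i
    rw [eT t ht] at h2
    have h3 := congrFun h2 0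
    rw [ap_zero', up_00, up_01] at h3
    linear_combination -h3
  -- the upper unitriangular elements fix `θ`
  have hU : ∀ b : Fin k → F, h.L (fun i => up (b i)) θ = θ := by
    intro b
    let S : Subgroup (Fin k → Matrix.SpecialLinearGroup (Fin 2) F) :=
      (MulAction.stabilizer (W ≃ₗ[ZMod 2] W) θ).comap h.L
    have hS : ∀ A, A ∈ S ↔ h.L A θ = θ := fun A => Iff.rfl
    rw [← hS]
    refine Subgroup.pi_mem_of_mulSingle_mem _ fun i => ?_
    rw [hS]
    have h1 := (h.sl hν i).up_ap hν (b i) θ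
    change h.L (Pi.mulSingle i (up (b i))) θ = _ at h1
    rw [h1]
    have e1 : ((Pi.evalAddMonoidHom (fun _ : Fin k => Fin 2 → F) i).comp e) θ 1 = 0 := hθ1 i
    rw [e1]
    have e2 : (![b i * 0, 0] : Fin 2 → F) = 0 := by
      apply ext2
      · simp
      · simp
    rw [e2, map_zero, add_zero]
    have e3 : b i * (0 : F) ^ 2 = 0 := by ring
    rw [e3, map_zero, add_zero]
  have hTK : ∀ t ∈ T ⊓ K, t • θ = θ := by
    rintro _ ⟨htT, A, rfl⟩
    -- `A i` preserves the line
    have hA : ∀ i, ent (A i) 1 0 = 0 := by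
      intro i
      obtain ⟨σ, hσ⟩ := h.line _ htT
      obtain ⟨w, hw⟩ := h.surj fun _ => ![1, 0]
      obtain ⟨j, rfl⟩ := σ.surjective i
      have h1 := (hσ w j).2 (by rw [hw]; rfl)
      rw [h.L_e, ap_one', hw] at h1
      simpa using h1
    obtain ⟨n, hn⟩ := two ⟨_, htT⟩
    have hn' : h.L (A ^ 2 ^ n) = h.L 1 := by
      rw [map_pow, map_one]
      exact congrArg Subtype.val hn
    have hAn := h.L_inj hn'
    have e1 : A = fun i => up (ent (A i) 0 1) := by
      funext i
      exact eq_up (hA i) (by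
        have := congrFun hAn i
        rwa [Pi.pow_apply] at this)
    rw [e1]
    exact hU _
  have hfix : ∀ w : W, (∀ t ∈ T, t • w = w) → ∀ x ∈ K, x • w = w := by
    intro w hw x hx
    rcases fix w hw with rfl | rfl
    · exact map_zero x
    · exact h.base.fix x (hKH hx)
  have hfin := Tools.OddFix.odd_fix (G := W ≃ₗ[ZMod 2] W) (W := W) addself two
    (fun t ht x hx => hKn t (h.TH ht) x hx) hodd hfix θ hTK
  have heθ : e θ = 0 := by
    funext i
    have h1 := hfin (h.L fun _ => lo 1) ⟨_, rfl⟩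
    change h.L (fun _ => lo 1) θ = θ at h1
    have h2 := h.L_e (fun _ => lo 1) θ i
    rw [h1] at h2
    have h3 := congrFun h2 1
    rw [ap_one', lo_10, lo_11] at h3
    apply ext2
    · change e θ i 0 = 0
      linear_combination -h3
    · exact hθ1 i
  -- contradiction
  let U : Submodule (ZMod 2) W :=
    { carrier := {w | e w = 0}
      zero_mem' := map_zero e
      add_mem' := by
        intro a b ha hb
        change e (a + b) = 0
        change e a = 0 at ha
        change e b = 0 at hb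
        rw [map_add, ha, hb, add_zero]
      smul_mem' := by
        intro c w hw
        rcases z2 c with rfl | rfl
        · rw [zero_smul]; exact map_zero e
        · rw [one_smul]; exact hw }
  have hUt := gen U h.ey fun x hx => h.kinv x hx θ heθ
  obtain ⟨w, hw⟩ := h.surj fun _ => ![1, 0]
  have h4 : w ∈ U := by rw [hUt]; exact Submodule.mem_top
  have h5 : e w = 0 := h4
  rw [hw] at h5
  have h6 := congrFun (congrFun h5 ⟨0, hk⟩) 0
  exact one_ne_zero h6

end NatW

end Cfsg.Agent.Omega.FOne.Act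

end

section


/-!
# (F1'), the minimal parabolic case: the natural case with `|F| = 2` is impossible
-/

set_option autoImplicit false
set_option linter.unusedSectionVars false

namespace Cfsg.Agent.Omega.FOne.Act

open Subgroup
open Cfsg.Agent.Lib.SL2Mat Cfsg.Agent.Omega.NatPair
open Cfsg.Agent.Omega.FOne.Tvw (Base addself z2 eq_of_add_eq_zero' ap_inv inv_ap)
open Cfsg.Agent.Omega.FOne.AT

section field

variable {F : Type*} [Field F] [CharP F 2]

/-- the element of order 3 -/
def c3 (F : Type*) [Field F] : Matrix.SpecialLinearGroup (Fin 2) F := up 1 * lo 1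

theorem ent_c3 : ent (c3 F) 0 0 = 0 ∧ ent (c3 F) 0 1 = 1 ∧ ent (c3 F) 1 0 = 1 ∧ ent (c3 F) 1 1 = 1 := by
  have h2 : (1 : F) + 1 = 0 := CharTwo.add_self_eq_zero 1
  refine ⟨?_, ?_, ?_, ?_⟩ <;> rw [c3, ent_mul] <;> simp [h2]

theorem ent_c32 : ent (c3 F * c3 F) 0 0 = 1 ∧ ent (c3 F * c3 F) 0 1 = 1 ∧ ent (c3 F * c3 F) 1 0 = 1 ∧
    ent (c3 F * c3 F) 1 1 = 0 := by
  have h2 : (1 : F) + 1 = 0 := CharTwo.add_self_eq_zero 1
  obtain ⟨h00, h01, h10, h11⟩ := ent_c3 (F := F)
  refine ⟨?_, ?_, ?_, ?_⟩ <;> rw [ent_mul] <;> simp only [h00, h01, h10, h11] <;> simp [h2]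

theorem c3_cube : c3 F * c3 F * c3 F = 1 := by
  have h2 : (1 : F) + 1 = 0 := CharTwo.add_self_eq_zero 1
  obtain ⟨h00, h01, h10, h11⟩ := ent_c3 (F := F)
  obtain ⟨k00, k01, k10, k11⟩ := ent_c32 (F := F)
  refine ext_ent ?_ ?_ ?_ ?_
  · rw [ent_mul, k00, k01, h00, h10, ent_one_00]; simp
  · rw [ent_mul, k00, k01, h01, h11, ent_one_01]; simp [h2]
  · rw [ent_mul, k10, k11, h00, h10, ent_one_10]; simp
  · rw [ent_mul, k10, k11, h01, h11, ent_one_11]; simp

theorem cube_mem (hF : ∀ x : F, x = 0 ∨ x = 1) {x : Matrix.SpecialLinearGroup (Fin 2) F} (hx : x * x * x = 1) :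
    x ∈ zpowers (c3 F) := by
  have h2 : (1 : F) + 1 = 0 := CharTwo.add_self_eq_zero 1
  have hne : (0 : F) ≠ 1 := zero_ne_one
  have hd := det_eq x
  obtain ⟨h00, h01, h10, h11⟩ := ent_c3 (F := F)
  obtain ⟨k00, k01, k10, k11⟩ := ent_c32 (F := F)
  have m0 : (1 : Matrix.SpecialLinearGroup (Fin 2) F) ∈ zpowers (c3 F) := one_mem _
  have m1 : c3 F ∈ zpowers (c3 F) := mem_zpowers _
  have m2 : c3 F * c3 F ∈ zpowers (c3 F) := mul_mem m1 m1
  -- involutions
  have hinv : x * x = 1 → x ∈ zpowers (c3 F) := by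
    intro h
    rw [h, one_mul] at hx
    rw [hx]; exact m0
  have neg1 : (-1 : F) = 1 := by linear_combination -h2
  have e1 : ent x 0 0 = 0 → ent x 0 1 = 1 → ent x 1 0 = 1 → ent x 1 1 = 1 → x ∈ zpowers (c3 F) := by
    intro a0 b0 c0 d0
    have : x = c3 F := ext_ent (a0.trans h00.symm) (b0.trans h01.symm) (c0.trans h10.symm) (d0.trans h11.symm)
    rw [this]; exact m1
  have e2 : ent x 0 0 = 1 → ent x 0 1 = 1 → ent x 1 0 = 1 → ent x 1 1 = 0 → x ∈ zpowers (c3 F) := by
    intro a0 b0 c0 d0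
    have : x = c3 F * c3 F := ext_ent (a0.trans k00.symm) (b0.trans k01.symm) (c0.trans k10.symm) (d0.trans k11.symm)
    rw [this]; exact m2
  have e3 : ent x 0 0 * ent x 0 0 + ent x 0 1 * ent x 1 0 = 1 → ent x 0 0 * ent x 0 1 + ent x 0 1 * ent x 1 1 = 0 →
      ent x 1 0 * ent x 0 0 + ent x 1 1 * ent x 1 0 = 0 → ent x 1 0 * ent x 0 1 + ent x 1 1 * ent x 1 1 = 1 →
      x ∈ zpowers (c3 F) := by
    intro a0 b0 c0 d0
    refine hinv (ext_ent ?_ ?_ ?_ ?_)
    · rw [ent_mul, a0, ent_one_00]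
    · rw [ent_mul, b0, ent_one_01]
    · rw [ent_mul, c0, ent_one_10]
    · rw [ent_mul, d0, ent_one_11]
  rcases hF (ent x 0 0) with a0 | a0 <;> rcases hF (ent x 0 1) with b0 | b0 <;>
    rcases hF (ent x 1 0) with c0 | c0 <;> rcases hF (ent x 1 1) with d0 | d0 <;>
    rw [a0, b0, c0, d0] at hd e3 <;>
    simp [h2, neg1] at hd e3 <;>
    first
    | exact e3
    | exact e1 a0 b0 c0 d0
    | exact e2 a0 b0 c0 d0

theorem cube_of_mem {x : Matrix.SpecialLinearGroup (Fin 2) F} (hx : x ∈ zpowers (c3 F)) : x ^ 3 = 1 := by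
  obtain ⟨n, rfl⟩ := mem_zpowers_iff.1 hx
  rw [← zpow_natCast, ← zpow_mul, mul_comm, zpow_mul]
  have : (c3 F) ^ ((3 : ℕ) : ℤ) = 1 := by
    rw [zpow_natCast, pow_succ, pow_two]; exact c3_cube
  rw [this, one_zpow]

end field

variable {W : Type*} [AddCommGroup W] [Module (ZMod 2) W] {F : Type*} [Field F] {k : ℕ}

namespace NatW

variable {H : Subgroup (W ≃ₗ[ZMod 2] W)} {y : W} {T : Subgroup (W ≃ₗ[ZMod 2] W)} {e : W →+ (Fin k → Fin 2 → F)}
variable (h : NatW H y T e)
include h

/-- `|F| = 2` -/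
theorem false_two [Finite W] [CharP F 2] (hF : ∀ x : F, x = 0 ∨ x = 1) (hk : 0 < k)
    (two : IsPGroup 2 T) (fix : ∀ w, (∀ t ∈ T, t w = w) → w = 0 ∨ w = y) : False := by
  classical
  have hfin : Finite (W ≃ₗ[ZMod 2] W) := DFunLike.finite _
  set K : Subgroup (W ≃ₗ[ZMod 2] W) :=
    (Subgroup.pi Set.univ (fun _ : Fin k => zpowers (c3 F))).map h.L with hKd
  have hKH : K ≤ H := by
    rintro _ ⟨A, -, rfl⟩
    exact h.L_mem A
  have hcube : ∀ x ∈ K, x ^ 3 = 1 := by
    rintro _ ⟨A, hA, rfl⟩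
    rw [← map_pow]
    have : A ^ 3 = 1 := by
      funext i
      rw [Pi.pow_apply]
      exact cube_of_mem (hA i (Set.mem_univ i))
    rw [this, map_one]
  have hKn : ∀ g ∈ H, ∀ x ∈ K, g * x * g⁻¹ ∈ K := by
    rintro g hg x hx
    have h3 := hcube x hx
    obtain ⟨A, hA, rfl⟩ := hx
    obtain ⟨B, hB⟩ := h.conj_L hg A
    refine ⟨B, fun i _ => ?_, hB.symm⟩
    have h4 : (g * h.L A * g⁻¹) ^ 3 = 1 := by
      rw [conj_pow, h3, mul_one, mul_inv_cancel]
    rw [hB, ← map_pow, ← map_one h.L] at h4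
    have h5 := congrFun (h.L_inj h4) i
    rw [Pi.pow_apply, Pi.one_apply, pow_succ, pow_two] at h5
    exact cube_mem hF h5
  have hK3 : IsPGroup 3 K := fun x => ⟨1, Subtype.ext (by
    change (x : W ≃ₗ[ZMod 2] W) ^ 3 ^ 1 = 1
    rw [pow_one]; exact hcube x x.2)⟩
  have hodd : ¬ 2 ∣ (T ⊓ K).relIndex K := by
    intro h2
    obtain ⟨n, hn⟩ := IsPGroup.iff_card.1 hK3
    have h3 : (T ⊓ K).relIndex K ∣ Nat.card K := Subgroup.relIndex_dvd_card _ _
    rw [hn] at h3
    have h4 := Nat.Prime.dvd_of_dvd_pow Nat.prime_two (h2.trans h3)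
    omega
  have hTK : ∀ w : W, ∀ t ∈ T ⊓ K, t • w = w := by
    rintro w t ⟨htT, htK⟩
    obtain ⟨n, hn⟩ := two ⟨t, htT⟩
    have h2 : t ^ 2 ^ n = 1 := congrArg Subtype.val hn
    have h3 := hcube t htK
    have h4 : orderOf t ∣ 2 ^ n := orderOf_dvd_of_pow_eq_one h2
    have h5 : orderOf t ∣ 3 := orderOf_dvd_of_pow_eq_one h3
    have h6 : orderOf t ∣ Nat.gcd (2 ^ n) 3 := Nat.dvd_gcd h4 h5
    have h7 : Nat.gcd (2 ^ n) 3 = 1 := Nat.Coprime.pow_left n (by norm_num)
    rw [h7, Nat.dvd_one, orderOf_eq_one_iff] at h6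
    rw [h6]
    rfl
  have hfix : ∀ w : W, (∀ t ∈ T, t • w = w) → ∀ x ∈ K, x • w = w := by
    intro w hw x hx
    rcases fix w hw with rfl | rfl
    · exact map_zero x
    · exact h.base.fix x (hKH hx)
  obtain ⟨w, hw⟩ := h.surj fun _ => ![1, 0]
  have h1 := Tools.OddFix.odd_fix (G := W ≃ₗ[ZMod 2] W) (W := W) addself two
    (fun t ht x hx => hKn t (h.TH ht) x hx) hodd hfix w (hTK w) (h.L fun _ => c3 F)
    ⟨_, fun i _ => mem_zpowers _, rfl⟩
  change h.L (fun _ => c3 F) w = w at h1
  have h2 := h.L_e (fun _ => c3 F) w ⟨0, hk⟩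
  rw [h1, hw] at h2
  have h3 := congrFun h2 0
  rw [ap_zero', ent_c3.1, ent_c3.2.1] at h3
  simp at h3

end NatW

end Cfsg.Agent.Omega.FOne.Act

end

section


/-!
# (F1), the minimal parabolic case, over a group `R` of fixed vectors of any order: lifts are unique

`e : W → E` additive, `e = 0` on `R`, `ker e` invariant under `H`.  An element of `H` which is trivial on `W / ker e`
and on `ker e / R` is `1`, because `O₂(H) = 1`.
-/

set_option autoImplicit false
set_option linter.unusedSectionVars false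

namespace Cfsg.Agent.Omega.FOne.ActR

open Cfsg.Agent.Omega.FOne.Tvw (Base addself z2 eq_of_add_eq_zero' ap_inv inv_ap)
open Cfsg.Agent.Omega.FOne.AT

variable {W : Type*} [AddCommGroup W] [Module (ZMod 2) W] {E : Type*} [AddCommGroup E]

/-- The hypotheses on `(H, R)`: `H` fixes `R`, is faithful on `W / R`, `O₂(H) = 1`. -/
structure BaseR (H : Subgroup (W ≃ₗ[ZMod 2] W)) (R : AddSubgroup W) : Prop where
  fix : ∀ h ∈ H, ∀ r ∈ R, h r = r
  faith : ∀ h ∈ H, (∀ w, h w + w ∈ R) → h = 1
  core : ∀ N : Subgroup (W ≃ₗ[ZMod 2] W), N ≤ H → (∀ h ∈ H, ∀ n ∈ N, h * n * h⁻¹ ∈ N) →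
    IsPGroup 2 N → N = ⊥

/-- `e : W → E`, trivial on `R`, with `H`-invariant kernel -/
structure Ek (H : Subgroup (W ≃ₗ[ZMod 2] W)) (R : AddSubgroup W) (e : W →+ E) : Prop where
  base : BaseR H R
  eR : ∀ r ∈ R, e r = 0
  kinv : ∀ h ∈ H, ∀ w, e w = 0 → e (h w) = 0

variable {H : Subgroup (W ≃ₗ[ZMod 2] W)} {R : AddSubgroup W} {e : W →+ E}

theorem BaseR.ap (b : BaseR H R) {g : W ≃ₗ[ZMod 2] W} (hg : g ∈ H) {a : W} (ha : a ∈ R) : g a ∈ R := by
  rw [b.fix g hg a ha]; exact ha

namespace Ek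

variable (h : Ek H R e)
include h

theorem e_R {a : W} (ha : a ∈ R) : e a = 0 := h.eR a ha

/-- the elements of `H`, trivial on `W / ker e` and on `ker e / R` -/
theorem uniq {g : W ≃ₗ[ZMod 2] W} (hg : g ∈ H) (h1 : ∀ w, e (g w) = e w)
    (h2 : ∀ w, e w = 0 → g w + w ∈ R) : g = 1 := by
  have d0 : ∀ k : W ≃ₗ[ZMod 2] W, (∀ w, e (k w) = e w) → ∀ w, e (k w + w) = 0 := by
    intro k hk w
    rw [map_add, hk, ← map_add, addself, map_zero]
  let N : Subgroup (W ≃ₗ[ZMod 2] W) :=
    { carrier := {k | k ∈ H ∧ (∀ w, e (k w) = e w) ∧ ∀ w, e w = 0 → k w + w ∈ R}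
      one_mem' := ⟨H.one_mem, fun w => rfl, fun w _ => by
        change w + w ∈ R
        rw [addself]; exact R.zero_mem⟩
      mul_mem' := by
        rintro a b ⟨ha, ha1, ha2⟩ ⟨hb, hb1, hb2⟩
        refine ⟨H.mul_mem ha hb, fun w => ?_, fun w hw => ?_⟩
        · change e (a (b w)) = e w
          rw [ha1, hb1]
        · change a (b w) + w ∈ R
          have h3 := ha2 (b w) (by rw [hb1, hw])
          have h4 := R.add_mem h3 (hb2 w hw)
          have h5 : a (b w) + w = a (b w) + b w + (b w + w) := by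
            linear_combination (norm := module) -addself (b w)
          rw [h5]; exact h4
      inv_mem' := by
        rintro a ⟨ha, ha1, ha2⟩
        refine ⟨H.inv_mem ha, fun w => ?_, fun w hw => ?_⟩
        · have := ha1 (a⁻¹ w)
          rw [ap_inv] at this
          exact this.symm
        · have h3 := ha1 (a⁻¹ w)
          rw [ap_inv, hw] at h3
          have h4 := ha2 _ h3.symm
          rw [ap_inv, add_comm] at h4
          exact h4 }
  have hN2 : IsPGroup 2 N := by
    rintro ⟨k, hk, hk1, hk2⟩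
    refine ⟨1, Subtype.ext ?_⟩
    change k ^ 2 ^ 1 = 1
    rw [pow_one, pow_two]
    refine h.base.faith _ (H.mul_mem hk hk) fun w => ?_
    change k (k w) + w ∈ R
    have h3 := hk2 _ (d0 k hk1 w)
    rw [map_add] at h3
    have h4 : k (k w) + w = k (k w) + k w + (k w + w) := by
      linear_combination (norm := module) -addself (k w)
    rw [h4]; exact h3
  have hNn : ∀ x ∈ H, ∀ n ∈ N, x * n * x⁻¹ ∈ N := by
    rintro x hx n ⟨hn, hn1, hn2⟩
    refine ⟨H.mul_mem (H.mul_mem hx hn) (H.inv_mem hx), fun w => ?_, fun w hw => ?_⟩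
    · change e (x (n (x⁻¹ w))) = e w
      have h3 := h.kinv x hx _ (d0 n hn1 (x⁻¹ w))
      rw [map_add, ap_inv, map_add] at h3
      have h4 : e w + e w = 0 := by rw [← map_add, addself, map_zero]
      have h5 : e (x (n (x⁻¹ w))) = e (x (n (x⁻¹ w))) + e w - e w := by abel
      rw [h5, h3, zero_sub]
      exact neg_eq_of_add_eq_zero_left h4
    · change x (n (x⁻¹ w)) + w ∈ R
      have h3 := h.base.ap hx (hn2 _ (h.kinv x⁻¹ (H.inv_mem hx) w hw))
      rw [map_add, ap_inv] at h3
      exact h3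
  have hbot := h.base.core N (fun k hk => hk.1) hNn hN2
  have : g ∈ N := ⟨hg, h1, h2⟩
  rw [hbot] at this
  exact Subgroup.mem_bot.1 this

theorem uniq2 {g g' : W ≃ₗ[ZMod 2] W} (hg : g ∈ H) (hg' : g' ∈ H) (h1 : ∀ w, e (g w) = e (g' w))
    (h2 : ∀ w, e w = 0 → g w + w ∈ R) (h2' : ∀ w, e w = 0 → g' w + w ∈ R) : g = g' := by
  have h3 : g * g'⁻¹ = 1 := h.uniq (H.mul_mem hg (H.inv_mem hg')) (fun w => by
    change e (g (g'⁻¹ w)) = e w
    rw [h1, ap_inv]) fun w hw => by
      change g (g'⁻¹ w) + w ∈ R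
      have h4 := h.kinv g'⁻¹ (H.inv_mem hg') w hw
      have h5 := h2 _ h4
      have h6 := h2' _ h4
      rw [ap_inv] at h6
      have h7 : g (g'⁻¹ w) + w = g (g'⁻¹ w) + g'⁻¹ w + (w + g'⁻¹ w) := by
        linear_combination (norm := module) -addself (g'⁻¹ w)
      rw [h7]
      exact R.add_mem h5 h6
  exact mul_inv_eq_one.1 h3

end Ek

end Cfsg.Agent.Omega.FOne.ActR

end

section


/-!
# (F1), the minimal parabolic case over `R`: `(W / R) / C(O²(H))` is a sum of natural `SL₂(F)`-modules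
-/

set_option autoImplicit false
set_option linter.unusedSectionVars false

namespace Cfsg.Agent.Omega.FOne.ActR

open Cfsg.Agent.Lib.SL2Mat Cfsg.Agent.Omega.NatPair
open Cfsg.Agent.Omega.FOne.Tvw (Base addself z2 eq_of_add_eq_zero' ap_inv inv_ap)
open Cfsg.Agent.Omega.FOne.AT

variable {W : Type*} [AddCommGroup W] [Module (ZMod 2) W] {F : Type*} [Field F] {k : ℕ}

/-- the conclusion of the FF theorem in the natural case, for `W / R` -/
structure NatW (H : Subgroup (W ≃ₗ[ZMod 2] W)) (R : AddSubgroup W) (T : Subgroup (W ≃ₗ[ZMod 2] W))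
    (e : W →+ (Fin k → Fin 2 → F)) : Prop extends Ek H R e where
  TH : T ≤ H
  surj : ∀ x, ∃ w, e w = x
  lift : ∀ A : Fin k → Matrix.SpecialLinearGroup (Fin 2) F, ∃ g ∈ H, (∀ w i, e (g w) i = ap (A i) (e w i)) ∧
    ∀ w, e w = 0 → g w + w ∈ R
  norm : ∀ g ∈ H, ∀ h ∈ H, ∀ A : Fin k → Matrix.SpecialLinearGroup (Fin 2) F,
    (∀ w i, e (h w) i = ap (A i) (e w i)) →
      ∃ B : Fin k → Matrix.SpecialLinearGroup (Fin 2) F, ∀ w i, e ((g * h * g⁻¹) w) i = ap (B i) (e w i)
  line : ∀ t ∈ T, ∃ σ : Equiv.Perm (Fin k), ∀ w i, e (t w) (σ i) 1 = 0 ↔ e w i 1 = 0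
  unip : ∀ b : Fin k → F, ∃ t ∈ T, (∀ w i, e (t w) i = ap (up (b i)) (e w i)) ∧ ∀ w, e w = 0 → t w + w ∈ R

open Cfsg.Agent.Omega.FOne.Act (comm_fix up_comm lo_comm)

namespace NatW

variable {H : Subgroup (W ≃ₗ[ZMod 2] W)} {R : AddSubgroup W} {T : Subgroup (W ≃ₗ[ZMod 2] W)} {e : W →+ (Fin k → Fin 2 → F)}
variable (h : NatW H R T e)

/-- the lift of `SL₂(F)^k` -/
noncomputable def L : (Fin k → Matrix.SpecialLinearGroup (Fin 2) F) →* (W ≃ₗ[ZMod 2] W) :=
  MonoidHom.mk' (fun A => (h.lift A).choose) fun A B => by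
    obtain ⟨h1, h2, h3⟩ := (h.lift (A * B)).choose_spec
    obtain ⟨a1, a2, a3⟩ := (h.lift A).choose_spec
    obtain ⟨b1, b2, b3⟩ := (h.lift B).choose_spec
    refine h.toEk.uniq2 h1 (H.mul_mem a1 b1) (fun w => ?_) h3 fun w hw => ?_
    · funext i
      change _ = e ((h.lift A).choose ((h.lift B).choose w)) i
      rw [h2, a2, b2, Pi.mul_apply, ap_mul]
    · change (h.lift A).choose ((h.lift B).choose w) + w ∈ R
      have h4 := b3 w hw
      have h5 := a3 ((h.lift B).choose w) (h.kinv _ b1 w hw)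
      have h6 : (h.lift A).choose ((h.lift B).choose w) + w =
          (h.lift A).choose ((h.lift B).choose w) + (h.lift B).choose w + ((h.lift B).choose w + w) := by
        linear_combination (norm := module) -addself ((h.lift B).choose w)
      rw [h6]
      exact R.add_mem h5 h4

theorem L_mem (A : Fin k → Matrix.SpecialLinearGroup (Fin 2) F) : h.L A ∈ H := (h.lift A).choose_spec.1

theorem L_e (A : Fin k → Matrix.SpecialLinearGroup (Fin 2) F) (w : W) (i : Fin k) :
    e (h.L A w) i = ap (A i) (e w i) := (h.lift A).choose_spec.2.1 w i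

theorem L_R (A : Fin k → Matrix.SpecialLinearGroup (Fin 2) F) {w : W} (hw : e w = 0) : h.L A w + w ∈ R :=
  (h.lift A).choose_spec.2.2 w hw

/-- a lift is `L` -/
theorem eq_L {g : W ≃ₗ[ZMod 2] W} (hg : g ∈ H) {A : Fin k → Matrix.SpecialLinearGroup (Fin 2) F}
    (h1 : ∀ w i, e (g w) i = ap (A i) (e w i)) (h2 : ∀ w, e w = 0 → g w + w ∈ R) : g = h.L A :=
  h.toEk.uniq2 hg (h.L_mem A) (fun w => funext fun i => by rw [h1, L_e]) h2 fun w hw => h.L_R A hw

/-- conjugates of `L A` -/
theorem conj_L {g : W ≃ₗ[ZMod 2] W} (hg : g ∈ H) (A : Fin k → Matrix.SpecialLinearGroup (Fin 2) F) :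
    ∃ B, g * h.L A * g⁻¹ = h.L B := by
  obtain ⟨B, hB⟩ := h.norm g hg _ (h.L_mem A) A (h.L_e A)
  refine ⟨B, h.eq_L (H.mul_mem (H.mul_mem hg (h.L_mem A)) (H.inv_mem hg)) hB fun w hw => ?_⟩
  change g (h.L A (g⁻¹ w)) + w ∈ R
  have h1 := h.base.ap hg (h.L_R A (h.kinv g⁻¹ (H.inv_mem hg) w hw))
  rw [map_add, ap_inv] at h1
  exact h1

theorem L_inj : Function.Injective h.L := by
  intro A B hAB
  funext i
  have key : ∀ x : Fin 2 → F, ap (A i) x = ap (B i) x := by
    intro x
    obtain ⟨w, hw⟩ := h.surj fun _ => x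
    have h1 := h.L_e A w i
    rw [hAB, h.L_e B w i, hw] at h1
    exact h1.symm
  have h0 := key ![1, 0]
  have h1 := key ![0, 1]
  have a0 := congrFun h0 0
  have a1 := congrFun h0 1
  have b0 := congrFun h1 0
  have b1 := congrFun h1 1
  simp only [ap_zero', ap_one', Matrix.cons_val_zero, Matrix.cons_val_one, mul_one, mul_zero, add_zero,
    zero_add] at a0 a1 b0 b1
  exact ext_ent a0 b0 a1 b1

/-- `|F| > 2`: the lift is trivial on the kernel of `e` -/
theorem tr0 [CharP F 2] (hν : ∃ ν : F, ν ≠ 0 ∧ ν ≠ 1) (A : Fin k → Matrix.SpecialLinearGroup (Fin 2) F) {w : W}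
    (hw : e w = 0) : h.L A w = w := by
  obtain ⟨ν, h0, h1⟩ := hν
  have hC : ∀ A, ∀ c ∈ R, h.L A c = c := fun A c hc => h.base.fix _ (h.L_mem A) c hc
  have hcomm : ∀ X Y : Fin k → Matrix.SpecialLinearGroup (Fin 2) F, h.L (X * Y * X⁻¹ * Y⁻¹) w = w := by
    intro X Y
    rw [map_mul, map_mul, map_mul, map_inv, map_inv]
    exact comm_fix (hC X) (hC Y) (h.L_R X hw) (h.L_R Y hw)
  have hup : ∀ b : Fin k → F, h.L (fun i => up (b i)) w = w := by
    intro b
    have := hcomm (fun _ => dg ν h0) (fun i => up (b i / (ν ^ 2 - 1)))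
    have e1 : (fun i => up (b i)) = (fun _ : Fin k => dg ν h0) * (fun i => up (b i / (ν ^ 2 - 1))) *
        (fun _ : Fin k => dg ν h0)⁻¹ * (fun i => up (b i / (ν ^ 2 - 1)))⁻¹ := by
      funext i
      exact up_comm h0 h1 (b i)
    rw [e1]; exact this
  have hlo : ∀ b : Fin k → F, h.L (fun i => lo (b i)) w = w := by
    intro b
    choose X Y hXY using fun i => lo_comm h0 h1 (b i)
    have e1 : (fun i => lo (b i)) = X * Y * X⁻¹ * Y⁻¹ := by
      funext i
      exact hXY i
    rw [e1]; exact hcomm X Y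
  choose a b c d hA using fun i => exists_up_lo (A i)
  have e1 : A = (fun i => up (a i)) * (fun i => lo (b i)) * (fun i => up (c i)) * fun i => lo (d i) := by
    funext i
    exact hA i
  rw [e1, map_mul, map_mul, map_mul]
  change h.L _ (h.L _ (h.L _ (h.L _ w))) = w
  rw [hlo, hup, hlo, hup]

/-- the kernel of `e` as an additive group -/
theorem L_one_block [CharP F 2] (hν : ∃ ν : F, ν ≠ 0 ∧ ν ≠ 1) (i : Fin k) (A : Matrix.SpecialLinearGroup (Fin 2) F)
    {w : W} (hw : e w i = 0) : h.L (Pi.mulSingle i A) w = w := by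
  classical
  have hν' := hν
  obtain ⟨ν, h0, h1⟩ := hν
  have hC : ∀ A, ∀ c ∈ e.ker, h.L A c = c := fun A c hc => h.tr0 hν' A (AddMonoidHom.mem_ker.1 hc)
  have hm : ∀ A, h.L (Pi.mulSingle i A) w + w ∈ e.ker := by
    intro A
    rw [AddMonoidHom.mem_ker, map_add]
    funext j
    rw [Pi.add_apply, h.L_e]
    by_cases hj : j = i
    · subst hj
      rw [hw]
      simp only [Pi.mulSingle_eq_same, Pi.zero_apply, add_zero]
      apply ext2
      · rw [ap_zero']; simp
      · rw [ap_one']; simp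
    · rw [Pi.mulSingle_eq_of_ne hj, ap_one]
      funext x
      rw [Pi.add_apply]
      exact CharTwo.add_self_eq_zero _
  have hcomm : ∀ X Y : Matrix.SpecialLinearGroup (Fin 2) F, h.L (Pi.mulSingle i (X * Y * X⁻¹ * Y⁻¹)) w = w := by
    intro X Y
    rw [Pi.mulSingle_mul, Pi.mulSingle_mul, Pi.mulSingle_mul, Pi.mulSingle_inv, Pi.mulSingle_inv, map_mul, map_mul,
      map_mul, map_inv, map_inv]
    exact comm_fix (hC _) (hC _) (hm X) (hm Y)
  have hup : ∀ b : F, h.L (Pi.mulSingle i (up b)) w = w := fun b => by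
    rw [up_comm h0 h1 b]; exact hcomm _ _
  have hlo : ∀ b : F, h.L (Pi.mulSingle i (lo b)) w = w := fun b => by
    obtain ⟨X, Y, hXY⟩ := lo_comm h0 h1 b
    rw [hXY]; exact hcomm _ _
  obtain ⟨a, b, c, d, rfl⟩ := exists_up_lo A
  rw [Pi.mulSingle_mul, Pi.mulSingle_mul, Pi.mulSingle_mul, map_mul, map_mul, map_mul]
  change h.L _ (h.L _ (h.L _ (h.L _ w))) = w
  rw [hlo, hup, hlo, hup]

/-- the `i`-th factor -/
noncomputable def l (i : Fin k) : Matrix.SpecialLinearGroup (Fin 2) F →* (W ≃ₗ[ZMod 2] W) :=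
  h.L.comp (MonoidHom.mulSingle (fun _ => Matrix.SpecialLinearGroup (Fin 2) F) i)

theorem l_apply (i : Fin k) (A : Matrix.SpecialLinearGroup (Fin 2) F) : h.l i A = h.L (Pi.mulSingle i A) := rfl

theorem sl [CharP F 2] (hν : ∃ ν : F, ν ≠ 0 ∧ ν ≠ 1) (i : Fin k) :
    Sl (h.l i) ((Pi.evalAddMonoidHom (fun _ : Fin k => Fin 2 → F) i).comp e) where
  act := by
    intro A w
    change e (h.L (Pi.mulSingle i A) w) i = ap A (e w i)
    rw [h.L_e, Pi.mulSingle_eq_same]
  tr := fun A w hw => h.L_one_block hν i A hw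
  sur := by
    intro x
    obtain ⟨w, hw⟩ := h.surj fun _ => x
    exact ⟨w, by change e w i = x; rw [hw]⟩

end NatW

end Cfsg.Agent.Omega.FOne.ActR

end

section


/-!
# (F1'), the minimal parabolic case: the natural case is impossible
-/

set_option autoImplicit false
set_option linter.unusedSectionVars false

namespace Cfsg.Agent.Omega.FOne.ActR

open Subgroup
open Cfsg.Agent.Lib.SL2Mat Cfsg.Agent.Omega.NatPair
open Cfsg.Agent.Omega.FOne.Tvw (Base addself z2 eq_of_add_eq_zero' ap_inv inv_ap)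
open Cfsg.Agent.Omega.FOne.AT

open Cfsg.Agent.Omega.FOne.Act (not_dvd_inf normalizer_of eq_up c3 cube_mem cube_of_mem ent_c3)

variable {W : Type*} [AddCommGroup W] [Module (ZMod 2) W] {F : Type*} [Field F] {k : ℕ}

namespace NatW

variable {H : Subgroup (W ≃ₗ[ZMod 2] W)} {R : AddSubgroup W} {T : Subgroup (W ≃ₗ[ZMod 2] W)} {e : W →+ (Fin k → Fin 2 → F)}
variable (h : NatW H R T e)
include h

/-- `|F| > 2` : a vector which is `T`-fixed modulo `R` is in the kernel of `e` -/
theorem e_zero [Finite W] [Fintype F] [DecidableEq F] [CharP F 2] (hν : ∃ ν : F, ν ≠ 0 ∧ ν ≠ 1)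
    (two : IsPGroup 2 T) (syl : ¬ 2 ∣ T.relIndex H) (fix : ∀ w, (∀ t ∈ T, t w = w) → w ∈ R) {θ : W}
    (Tθ : ∀ t ∈ T, t θ + θ ∈ R) : e θ = 0 := by
  classical
  have hfin : Finite (W ≃ₗ[ZMod 2] W) := DFunLike.finite _
  set K : Subgroup (W ≃ₗ[ZMod 2] W) := h.L.range with hKd
  have hKH : K ≤ H := by
    rintro _ ⟨A, rfl⟩
    exact h.L_mem A
  have hKn : ∀ g ∈ H, ∀ x ∈ K, g * x * g⁻¹ ∈ K := by
    rintro g hg _ ⟨A, rfl⟩
    obtain ⟨B, hB⟩ := h.conj_L hg A
    exact ⟨B, hB.symm⟩
  have hodd := not_dvd_inf h.TH syl hKH (normalizer_of hKn)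
  have eT : ∀ t ∈ T, e (t θ) = e θ := fun t ht => by
    have h1 := h.toEk.e_R (Tθ t ht)
    rw [map_add] at h1
    funext i x
    have h2 := congrFun (congrFun h1 i) x
    exact CharTwo.add_eq_zero.1 h2
  -- `θ` is on the lines
  have hθ1 : ∀ i, e θ i 1 = 0 := by
    intro i
    obtain ⟨t, ht, h1, -⟩ := h.unip fun _ => 1
    have h2 := h1 θ i
    rw [eT t ht] at h2
    have h3 := congrFun h2 0
    rw [ap_zero', up_00, up_01] at h3
    linear_combination -h3
  -- the upper unitriangular elements fix `θ`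
  have hU : ∀ b : Fin k → F, h.L (fun i => up (b i)) θ = θ := by
    intro b
    let S : Subgroup (Fin k → Matrix.SpecialLinearGroup (Fin 2) F) :=
      (MulAction.stabilizer (W ≃ₗ[ZMod 2] W) θ).comap h.L
    have hS : ∀ A, A ∈ S ↔ h.L A θ = θ := fun A => Iff.rfl
    rw [← hS]
    refine Subgroup.pi_mem_of_mulSingle_mem _ fun i => ?_
    rw [hS]
    have h1 := (h.sl hν i).up_ap hν (b i) θ
    change h.L (Pi.mulSingle i (up (b i))) θ = _ at h1
    rw [h1]
    have e1 : ((Pi.evalAddMonoidHom (fun _ : Fin k => Fin 2 → F) i).comp e) θ 1 = 0 := hθ1 i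
    rw [e1]
    have e2 : (![b i * 0, 0] : Fin 2 → F) = 0 := by
      apply ext2
      · simp
      · simp
    rw [e2, map_zero, add_zero]
    have e3 : b i * (0 : F) ^ 2 = 0 := by ring
    rw [e3, map_zero, add_zero]
  have hTK : ∀ t ∈ T ⊓ K, t • θ = θ := by
    rintro _ ⟨htT, A, rfl⟩
    -- `A i` preserves the line
    have hA : ∀ i, ent (A i) 1 0 = 0 := by
      intro i
      obtain ⟨σ, hσ⟩ := h.line _ htT
      obtain ⟨w, hw⟩ := h.surj fun _ => ![1, 0]
      obtain ⟨j, rfl⟩ := σ.surjective i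
      have h1 := (hσ w j).2 (by rw [hw]; rfl)
      rw [h.L_e, ap_one', hw] at h1
      simpa using h1
    obtain ⟨n, hn⟩ := two ⟨_, htT⟩
    have hn' : h.L (A ^ 2 ^ n) = h.L 1 := by
      rw [map_pow, map_one]
      exact congrArg Subtype.val hn
    have hAn := h.L_inj hn'
    have e1 : A = fun i => up (ent (A i) 0 1) := by
      funext i
      exact eq_up (hA i) (by
        have := congrFun hAn i
        rwa [Pi.pow_apply] at this)
    rw [e1]
    exact hU _
  have hfix : ∀ w : W, (∀ t ∈ T, t • w = w) → ∀ x ∈ K, x • w = w := by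
    intro w hw x hx
    exact h.base.fix x (hKH hx) w (fix w hw)
  have hfin := Tools.OddFix.odd_fix (G := W ≃ₗ[ZMod 2] W) (W := W) addself two
    (fun t ht x hx => hKn t (h.TH ht) x hx) hodd hfix θ hTK
  funext i
  have h1 := hfin (h.L fun _ => lo 1) ⟨_, rfl⟩
  change h.L (fun _ => lo 1) θ = θ at h1
  have h2 := h.L_e (fun _ => lo 1) θ i
  rw [h1] at h2
  have h3 := congrFun h2 1
  rw [ap_one', lo_10, lo_11] at h3
  apply ext2
  · change e θ i 0 = 0
    linear_combination -h3
  · exact hθ1 i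

/-- `|F| > 2` -/
theorem false_big [Finite W] [Fintype F] [DecidableEq F] [CharP F 2] (hν : ∃ ν : F, ν ≠ 0 ∧ ν ≠ 1) (hk : 0 < k)
    (two : IsPGroup 2 T) (syl : ¬ 2 ∣ T.relIndex H) (fix : ∀ w, (∀ t ∈ T, t w = w) → w ∈ R)
    (gen : ∀ U : Submodule (ZMod 2) W, (∀ r ∈ R, r ∈ U) →
      (∀ w, (∀ t ∈ T, t w + w ∈ R) → ∀ x ∈ H, x w ∈ U) → U = ⊤) : False := by
  let U : Submodule (ZMod 2) W :=
    { carrier := {w | e w = 0}
      zero_mem' := map_zero e
      add_mem' := by
        intro a b ha hb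
        change e (a + b) = 0
        change e a = 0 at ha
        change e b = 0 at hb
        rw [map_add, ha, hb, add_zero]
      smul_mem' := by
        intro c w hw
        rcases z2 c with rfl | rfl
        · rw [zero_smul]; exact map_zero e
        · rw [one_smul]; exact hw }
  have hUt := gen U h.eR fun w hw x hx => h.kinv x hx w (h.e_zero hν two syl fix hw)
  obtain ⟨w, hw⟩ := h.surj fun _ => ![1, 0]
  have h4 : w ∈ U := by rw [hUt]; exact Submodule.mem_top
  have h5 : e w = 0 := h4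
  rw [hw] at h5
  have h6 := congrFun (congrFun h5 ⟨0, hk⟩) 0
  exact one_ne_zero h6

/-- `|F| = 2` -/
theorem false_two [Finite W] [CharP F 2] (hF : ∀ x : F, x = 0 ∨ x = 1) (hk : 0 < k)
    (two : IsPGroup 2 T) (fix : ∀ w, (∀ t ∈ T, t w = w) → w ∈ R) : False := by
  classical
  have hfin : Finite (W ≃ₗ[ZMod 2] W) := DFunLike.finite _
  set K : Subgroup (W ≃ₗ[ZMod 2] W) :=
    (Subgroup.pi Set.univ (fun _ : Fin k => zpowers (c3 F))).map h.L with hKd
  have hKH : K ≤ H := by
    rintro _ ⟨A, -, rfl⟩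
    exact h.L_mem A
  have hcube : ∀ x ∈ K, x ^ 3 = 1 := by
    rintro _ ⟨A, hA, rfl⟩
    rw [← map_pow]
    have : A ^ 3 = 1 := by
      funext i
      rw [Pi.pow_apply]
      exact cube_of_mem (hA i (Set.mem_univ i))
    rw [this, map_one]
  have hKn : ∀ g ∈ H, ∀ x ∈ K, g * x * g⁻¹ ∈ K := by
    rintro g hg x hx
    have h3 := hcube x hx
    obtain ⟨A, hA, rfl⟩ := hx
    obtain ⟨B, hB⟩ := h.conj_L hg A
    refine ⟨B, fun i _ => ?_, hB.symm⟩
    have h4 : (g * h.L A * g⁻¹) ^ 3 = 1 := by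
      rw [conj_pow, h3, mul_one, mul_inv_cancel]
    rw [hB, ← map_pow, ← map_one h.L] at h4
    have h5 := congrFun (h.L_inj h4) i
    rw [Pi.pow_apply, Pi.one_apply, pow_succ, pow_two] at h5
    exact cube_mem hF h5
  have hK3 : IsPGroup 3 K := fun x => ⟨1, Subtype.ext (by
    change (x : W ≃ₗ[ZMod 2] W) ^ 3 ^ 1 = 1
    rw [pow_one]; exact hcube x x.2)⟩
  have hodd : ¬ 2 ∣ (T ⊓ K).relIndex K := by
    intro h2
    obtain ⟨n, hn⟩ := IsPGroup.iff_card.1 hK3
    have h3 : (T ⊓ K).relIndex K ∣ Nat.card K := Subgroup.relIndex_dvd_card _ _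
    rw [hn] at h3
    have h4 := Nat.Prime.dvd_of_dvd_pow Nat.prime_two (h2.trans h3)
    omega
  have hTK : ∀ w : W, ∀ t ∈ T ⊓ K, t • w = w := by
    rintro w t ⟨htT, htK⟩
    obtain ⟨n, hn⟩ := two ⟨t, htT⟩
    have h2 : t ^ 2 ^ n = 1 := congrArg Subtype.val hn
    have h3 := hcube t htK
    have h4 : orderOf t ∣ 2 ^ n := orderOf_dvd_of_pow_eq_one h2
    have h5 : orderOf t ∣ 3 := orderOf_dvd_of_pow_eq_one h3
    have h6 : orderOf t ∣ Nat.gcd (2 ^ n) 3 := Nat.dvd_gcd h4 h5
    have h7 : Nat.gcd (2 ^ n) 3 = 1 := Nat.Coprime.pow_left n (by norm_num)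
    rw [h7, Nat.dvd_one, orderOf_eq_one_iff] at h6
    rw [h6]
    rfl
  have hfix : ∀ w : W, (∀ t ∈ T, t • w = w) → ∀ x ∈ K, x • w = w := by
    intro w hw x hx
    exact h.base.fix x (hKH hx) w (fix w hw)
  obtain ⟨w, hw⟩ := h.surj fun _ => ![1, 0]
  have h1 := Tools.OddFix.odd_fix (G := W ≃ₗ[ZMod 2] W) (W := W) addself two
    (fun t ht x hx => hKn t (h.TH ht) x hx) hodd hfix w (hTK w) (h.L fun _ => c3 F)
    ⟨_, fun i _ => mem_zpowers _, rfl⟩
  change h.L (fun _ => c3 F) w = w at h1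
  have h2 := h.L_e (fun _ => c3 F) w ⟨0, hk⟩
  rw [h1, hw] at h2
  have h3 := congrFun h2 0
  rw [ap_zero', ent_c3.1, ent_c3.2.1] at h3
  simp at h3

end NatW

end Cfsg.Agent.Omega.FOne.ActR

end

section


/-!
# THEOREM AT, step (2): the map `f : W → F`
-/

set_option autoImplicit false
set_option linter.unusedSectionVars false

namespace Cfsg.Agent.Omega.FOne.AT

open Cfsg.Agent.Lib.SL2Mat Cfsg.Agent.Omega.NatPair
open Cfsg.Agent.Omega.FOne.Tvw (Base addself z2 eq_of_add_eq_zero' ap_inv inv_ap)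

variable {W : Type*} [AddCommGroup W] [Module (ZMod 2) W] {F : Type*} [Field F]
variable {H : Subgroup (W ≃ₗ[ZMod 2] W)} {y : W} {V : Submodule (ZMod 2) W}
  {l : Matrix.SpecialLinearGroup (Fin 2) F →* (W ≃ₗ[ZMod 2] W)} {e : W →+ (Fin 2 → F)}

/-- the coordinate of an additive map into `{0, y}` -/
theorem exists_cf {A : Type*} [AddCommGroup A] {y : W} (y0 : y ≠ 0) (β : A →+ W) (hβ : ∀ a, β a ∈ Yy y) :
    ∃ ψ : A →+ ZMod 2, ∀ a, β a = ψ a • y := by
  classical
  refine ⟨AddMonoidHom.mk' (fun a => if β a = 0 then 0 else 1) fun a b => ?_, fun a => ?_⟩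
  · rcases hβ a with h1 | h1 <;> rcases hβ b with h2 | h2 <;> rw [map_add, h1, h2]
    · simp
    · simp [y0]
    · simp [y0]
    · rw [addself]; simp [y0]; decide
  · change β a = (if β a = 0 then (0 : ZMod 2) else 1) • y
    rcases hβ a with h1 | h1 <;> rw [h1]
    · simp
    · simp [y0]

namespace Cor

variable (h : Cor H y V l e) [Fintype F] [DecidableEq F] [CharP F 2] (hν : ∃ ν : F, ν ≠ 0 ∧ ν ≠ 1)
include hν

/-- the commutator of `r` with a torus element -/
theorem exists_qq {r : W ≃ₗ[ZMod 2] W} (hr : r ∈ H) (hrV : ∀ v ∈ V, r v + v ∈ Yy y)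
    (hx : ∃ x, r (sg h.toSl x) ≠ sg h.toSl x) : ∃ η ψ, (η, ψ) ∈ h.QQ ∧ ψ ≠ 0 := by
  obtain ⟨x, hx⟩ := hx
  let R : W →+ W := lin r + AddMonoidHom.id W
  have hR : ∀ w, R w = r w + w := fun w => rfl
  have hRV : ∀ v ∈ V, R v ∈ Yy y := hrV
  have hV := h.sg_mem
  obtain ⟨s, hs⟩ : ∃ s : Fˣ, R (l (tor s) (sg h.toSl x)) ≠ R (sg h.toSl x) := by
    by_contra hcon
    push Not at hcon
    have e1 : ∑ s : Fˣ, R (l (tor s) (sg h.toSl x)) = R (sg h.toSl x) := by
      simp only [hcon]
      rw [Finset.sum_const, Finset.card_univ]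
      exact odd_nsmul odd_units _
    have e2 : ∑ s : Fˣ, R (l (tor s) (sg h.toSl x)) = 0 := by
      rw [← map_sum]
      change R (nn l (sg h.toSl x)) = 0
      rw [h.toSl.nn_sg hν, map_zero]
    rw [e2] at e1
    apply hx
    exact eq_of_add_eq_zero' e1.symm
  set A : Matrix.SpecialLinearGroup (Fin 2) F := (tor s)⁻¹ with hA
  have hlA : (l A)⁻¹ = l (tor s) := by rw [hA, map_inv, inv_inv]
  have hAH := h.lH A
  set g : W ≃ₗ[ZMod 2] W := l A * r * (l A)⁻¹ * r⁻¹ with hg
  have hgH : g ∈ H := H.mul_mem (H.mul_mem (H.mul_mem hAH hr) (H.inv_mem hAH)) (H.inv_mem hr)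
  have hgw : ∀ w, g w = l A (r ((l A)⁻¹ (r⁻¹ w))) := fun w => rfl
  have hAV : ∀ v ∈ V, (l A)⁻¹ v ∈ V := fun v hv => by rw [hlA]; exact h.lV _ v hv
  -- the action on `V`
  have hrinv : ∀ v ∈ V, r⁻¹ v = v + R v := by
    intro v hv
    have h1 := hRV v hv
    apply r.injective
    rw [ap_inv, map_add, Base.fixY h.base hr h1, hR]
    linear_combination (norm := module) -addself (r v)
  have hgV : ∀ v ∈ V, g v = v + (R v + R (l (tor s) v)) := by
    intro v hv
    have h1 := hRV v hv
    have h2 := hRV _ (h.lV (tor s) v hv)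
    rw [hgw, hrinv v hv, map_add, hlA, Base.fixY h.base (h.lH _) h1, map_add, Base.fixY h.base hr h1]
    have h3 : r (l (tor s) v) = l (tor s) v + R (l (tor s) v) := by
      rw [hR]
      linear_combination (norm := module) -addself (l (tor s) v)
    rw [h3, map_add, map_add, Base.fixY h.base hAH h1, Base.fixY h.base hAH h2]
    have h4 : l A (l (tor s) v) = v := by rw [← l_mul, hA, inv_mul_cancel, l_one]
    rw [h4]; abel
  -- the additive map
  let β : (Fin 2 → F) →+ W := (R + R.comp (lin (l (tor s)))).comp (sg h.toSl)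
  have hβ : ∀ z, β z = R (sg h.toSl z) + R (l (tor s) (sg h.toSl z)) := fun z => rfl
  obtain ⟨ψ, hψ⟩ := exists_cf h.base.y0 β fun z => by
    rw [hβ]
    exact (Yy y).add_mem (hRV _ (hV z)) (hRV _ (h.lV _ _ (hV z)))
  refine ⟨lin g + AddMonoidHom.id W, ψ, h.mem_QQ.2 ⟨fun w => ?_, fun v hv => ?_, g, hgH, fun w => ?_, fun v hv => ?_⟩,
    fun h0 => ?_⟩
  · change g w + w ∈ V
    set u := r⁻¹ w with hu
    have hw : r u = w := ap_inv _ _
    have h1 : (l A)⁻¹ u + u ∈ V := by rw [hlA]; exact h.comm_mem _ hν u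
    set m := (l A)⁻¹ u + u with hm
    have h2 : (l A)⁻¹ u = u + m := by
      rw [hm]; linear_combination (norm := module) -addself u
    have h3 : r m ∈ V := by
      have h4 : r m = m + R m := by rw [hR]; linear_combination (norm := module) -addself m
      rw [h4]
      refine V.add_mem h1 ?_
      rcases hRV m h1 with h5 | h5 <;> rw [h5]
      · exact V.zero_mem
      · exact h.yV
    have h4 : g w = l A w + l A (r m) := by rw [hgw, ← hu, h2, map_add, hw, map_add]
    have h5 : g w + w = (l A w + w) + l A (r m) := by rw [h4]; abel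
    rw [h5]
    exact V.add_mem (h.comm_mem _ hν w) (h.lV _ _ h3)
  · change g v + v ∈ Yy y
    rw [hgV v hv]
    have h1 : v + (R v + R (l (tor s) v)) + v = R v + R (l (tor s) v) := by
      linear_combination (norm := module) addself v
    rw [h1]
    exact (Yy y).add_mem (hRV _ hv) (hRV _ (h.lV _ _ hv))
  · change g w + w + (g w + w) ∈ Yy y
    rw [addself]; exact (Yy y).zero_mem
  · change g v = v + ψ (e v) • y
    rw [← hψ, hgV v hv, hβ]
    obtain ⟨c, hc, hv'⟩ := h.toSl.exists_dec v hν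
    have h1 : R (l (tor s) v) = R (l (tor s) (sg h.toSl (e v))) + R c := by
      nth_rewrite 1 [hv']
      rw [map_add, h.tr _ c hc, map_add]
    have h2 : R v = R (sg h.toSl (e v)) + R c := by
      nth_rewrite 1 [hv']
      rw [map_add]
    rw [h1, h2]
    linear_combination (norm := module) addself (R c)
  · have h1 := hψ x
    rw [h0] at h1
    change β x = (0 : ZMod 2) • y at h1
    rw [zero_smul, hβ] at h1
    exact hs (eq_of_add_eq_zero' h1).symm

/-- the value on the second axis may be assumed to be non-zero -/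
theorem exists_pp {r : W ≃ₗ[ZMod 2] W} (hr : r ∈ H) (hrV : ∀ v ∈ V, r v + v ∈ Yy y)
    (hx : ∃ x, r (sg h.toSl x) ≠ sg h.toSl x) : ∃ γ ψ, h.PP γ ψ ∧ ∃ t : F, ψ ![0, t] ≠ 0 := by
  obtain ⟨η, ψ, h1, h2⟩ := h.exists_qq hν hr hrV hx
  have h3 : h.PP (e.comp η) ψ := h.pur hν h1
  by_cases h4 : ∃ t : F, ψ ![0, t] ≠ 0
  · exact ⟨_, _, h3, h4⟩
  push Not at h4
  refine ⟨_, _, PP.ap h hν h3 wl, ?_⟩
  by_contra hcon
  push Not at hcon
  apply h2
  refine AddMonoidHom.ext fun x => ?_
  have e1 : x = ![x 0, 0] + ![0, x 1] := by apply ext2 <;> simp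
  rw [e1, map_add, h4, add_zero]
  have e2 := hcon (-x 0)
  change ψ (NatPair.ap wl⁻¹ ![0, -x 0]) = 0 at e2
  have e3 : NatPair.ap (wl : Matrix.SpecialLinearGroup (Fin 2) F)⁻¹ ![0, -x 0] = ![x 0, 0] := by
    rw [ent_inv]
    apply ext2
    · rw [ap_zero']; simp
    · rw [ap_one']; simp
  rw [e3] at e2
  exact e2

/-- **step (2)** -/
theorem exists_f {r : W ≃ₗ[ZMod 2] W} (hr : r ∈ H) (hrV : ∀ v ∈ V, r v + v ∈ Yy y)
    (hx : ∃ x, r (sg h.toSl x) ≠ sg h.toSl x) :
    ∃ (f : W →+ F) (χ : F →+ ZMod 2), χ ≠ 0 ∧ (∀ v ∈ V, f v = 0) ∧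
      ∀ t : F, ∃ g ∈ H, (∀ w, g w + w + sg h.toSl ![0, t * f w] ∈ Yy y) ∧ ∀ v ∈ V, g v = v + χ (t * e v 0) • y := by
  obtain ⟨γ, ψ, h1, t0, ht0⟩ := h.exists_pp hν hr hrV hx
  let f : W →+ F := (Pi.evalAddMonoidHom (fun _ : Fin 2 => F) 0).comp γ
  have hf : ∀ w, f w = γ w 0 := fun w => rfl
  let χ : F →+ ZMod 2 := ψ.comp (AddMonoidHom.mk' (fun t : F => ![0, t]) fun a b => by apply ext2 <;> simp)
  have hχ : ∀ t, χ t = ψ ![0, t] := fun t => rfl
  refine ⟨f, χ, fun h0 => ht0 ?_, fun v hv => ?_, fun t => ?_⟩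
  · rw [← hχ, h0]; rfl
  · have h2 := (h.mem_QQ.1 h1).2.1 v hv
    have h3 : e (sg h.toSl (γ v)) = 0 := by
      rcases h2 with h2 | h2
      · change sg h.toSl (γ v) = 0 at h2
        rw [h2, map_zero]
      · change sg h.toSl (γ v) = y at h2
        rw [h2, h.ey]
    rw [h.toSl.e_sg hν] at h3
    rw [hf, h3]; rfl
  · have h2 := PP.add h (PP.ap h hν h1 (lo t)) h1
    obtain ⟨-, -, g, hg, h3, h4⟩ := h.mem_QQ.1 h2
    refine ⟨g, hg, fun w => ?_, fun v hv => ?_⟩
    · have h5 := h3 w
      have h6 : ((apH (lo t)).comp γ + γ) w = ![0, t * f w] := by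
        change NatPair.ap (lo t) (γ w) + γ w = _
        apply ext2
        · rw [Pi.add_apply, ap_zero']
          simp
          exact CharTwo.add_self_eq_zero _
        · rw [Pi.add_apply, ap_one', hf]
          simp
          rw [add_assoc, CharTwo.add_self_eq_zero, add_zero]
      rw [← h6]
      exact h5
    · have h5 := h4 v hv
      rw [h5]
      congr 2
      change ψ (NatPair.ap (lo t)⁻¹ (e v)) + ψ (e v) = _
      rw [← map_add, hχ]
      congr 1
      rw [lo_inv]
      apply ext2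
      · rw [Pi.add_apply, ap_zero']
        simp
        exact CharTwo.add_self_eq_zero _
      · rw [Pi.add_apply, ap_one']
        simp
        rw [add_assoc, CharTwo.add_self_eq_zero, add_zero, CharTwo.neg_eq]

end Cor

end Cfsg.Agent.Omega.FOne.AT

end

end

-- merged: Cfsg.Agent.Mrg.Omega.FOne.Act.Sym
section

section


/-!
# (F1'), the minimal parabolic case: sums of even-subset modules of `S_n`

A transposition lift is a transvection of `W / y`, so an atom has order 2.
-/

set_option autoImplicit false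
set_option linter.unusedSectionVars false

namespace Cfsg.Agent.Omega.FOne.Act

open Subgroup
open Cfsg.Agent.Omega.FOne.Tvw (Base addself z2 eq_of_add_eq_zero' ap_inv inv_ap)
open Cfsg.Agent.Omega.FOne.AT
open Cfsg.Agent.Omega.FOne.NOv (cm MEx MAtom)

variable {W : Type*} [AddCommGroup W] [Module (ZMod 2) W] {k n : ℕ}

/-- the conclusion of the FF theorem in the symmetric case, for `W / y` -/
structure SymW (H : Subgroup (W ≃ₗ[ZMod 2] W)) (y : W) (e : W →+ (Fin k → Fin n → ZMod 2)) : Prop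
    extends Ek H y e where
  even : ∀ w i, ∑ x, e w i x = 0
  surj : ∀ z : Fin k → Fin n → ZMod 2, (∀ i, ∑ x, z i x = 0) → ∃ w, e w = z
  lift : ∀ τ : Fin k → Equiv.Perm (Fin n), ∃ g ∈ H, (∀ w i x, e (g w) i (τ i x) = e w i x) ∧
    ∀ w, e w = 0 → g w + w ∈ Yy y

/-- the pair `{u, s}` of the block `j` -/
def pr (j : Fin k) (u s : Fin n) : Fin k → Fin n → ZMod 2 := Pi.single j (Pi.single u 1 + Pi.single s 1)

theorem pr_sum (j : Fin k) (u s : Fin n) (i : Fin k) : ∑ x, pr j u s i x = 0 := by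
  by_cases h : i = j
  · subst h
    have h1 : ∑ x, pr i u s i x = ∑ x, ((Pi.single u 1 : Fin n → ZMod 2) x + (Pi.single s 1 : Fin n → ZMod 2) x) := by
      refine Finset.sum_congr rfl fun x _ => ?_
      rw [pr, Pi.single_eq_same]; rfl
    rw [h1, Finset.sum_add_distrib]
    simp only [Finset.sum_pi_single', Finset.mem_univ, if_true]
    rfl
  · have h1 : ∀ x, pr j u s i x = 0 := fun x => by
      rw [pr, Pi.single_eq_of_ne h]; rfl
    simp [h1]

namespace SymW

variable {H : Subgroup (W ≃ₗ[ZMod 2] W)} {y : W} {e : W →+ (Fin k → Fin n → ZMod 2)}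
variable (h : SymW H y e)

/-- the lift -/
noncomputable def L : (Fin k → Equiv.Perm (Fin n)) →* (W ≃ₗ[ZMod 2] W) :=
  MonoidHom.mk' (fun A => (h.lift A).choose) fun A B => by
    obtain ⟨h1, h2, h3⟩ := (h.lift (A * B)).choose_spec
    obtain ⟨a1, a2, a3⟩ := (h.lift A).choose_spec
    obtain ⟨b1, b2, b3⟩ := (h.lift B).choose_spec
    refine h.toEk.uniq2 h1 (H.mul_mem a1 b1) (fun w => ?_) h3 fun w hw => ?_
    · funext i x
      change _ = e ((h.lift A).choose ((h.lift B).choose w)) i x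
      obtain ⟨z, rfl⟩ := (A i).surjective x
      obtain ⟨x, rfl⟩ := (B i).surjective z
      rw [a2, b2]
      exact h2 w i x
    · change (h.lift A).choose ((h.lift B).choose w) + w ∈ Yy y
      have h4 := b3 w hw
      have h5 := a3 ((h.lift B).choose w) (h.kinv _ b1 w hw)
      have h6 : (h.lift A).choose ((h.lift B).choose w) + w =
          (h.lift A).choose ((h.lift B).choose w) + (h.lift B).choose w + ((h.lift B).choose w + w) := by
        linear_combination (norm := module) -addself ((h.lift B).choose w)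
      rw [h6]
      exact (Yy y).add_mem h5 h4

theorem L_mem (A : Fin k → Equiv.Perm (Fin n)) : h.L A ∈ H := (h.lift A).choose_spec.1

theorem L_e (A : Fin k → Equiv.Perm (Fin n)) (w : W) (i : Fin k) (x : Fin n) :
    e (h.L A w) i (A i x) = e w i x := (h.lift A).choose_spec.2.1 w i x

theorem L_e' (A : Fin k → Equiv.Perm (Fin n)) (w : W) (i : Fin k) (x : Fin n) :
    e (h.L A w) i x = e w i ((A i)⁻¹ x) := by
  have := h.L_e A w i ((A i)⁻¹ x)
  rwa [show (A i) ((A i)⁻¹ x) = x from (A i).apply_symm_apply x] at this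

theorem L_Yy (A : Fin k → Equiv.Perm (Fin n)) {w : W} (hw : e w = 0) : h.L A w + w ∈ Yy y :=
  (h.lift A).choose_spec.2.2 w hw

theorem eq_L {g : W ≃ₗ[ZMod 2] W} (hg : g ∈ H) {A : Fin k → Equiv.Perm (Fin n)}
    (h1 : ∀ w i x, e (g w) i (A i x) = e w i x) (h2 : ∀ w, e w = 0 → g w + w ∈ Yy y) : g = h.L A :=
  h.toEk.uniq2 hg (h.L_mem A) (fun w => by
    funext i x
    obtain ⟨z, rfl⟩ := (A i).surjective x
    rw [h1, L_e]) h2 fun w hw => h.L_Yy A hw

/-- the transposition `(p q)` of the block `i` -/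
noncomputable def tr (i : Fin k) (p q : Fin n) : W ≃ₗ[ZMod 2] W := h.L (Pi.mulSingle i (Equiv.swap p q))

theorem tr_mem (i : Fin k) (p q : Fin n) : h.tr i p q ∈ H := h.L_mem _

theorem tr_e (i : Fin k) (p q : Fin n) (w : W) (x : Fin n) : e (h.tr i p q w) i x = e w i (Equiv.swap p q x) := by
  rw [tr, h.L_e', Pi.mulSingle_eq_same, Equiv.swap_inv]

theorem tr_e_ne {i j : Fin k} (hj : j ≠ i) (p q : Fin n) (w : W) (x : Fin n) : e (h.tr i p q w) j x = e w j x := by
  rw [tr, h.L_e', Pi.mulSingle_eq_of_ne hj]; rfl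

theorem tr_Yy (i : Fin k) (p q : Fin n) {w : W} (hw : e w = 0) : h.tr i p q w + w ∈ Yy y := h.L_Yy _ hw

/-- the fixed space of the transposition, modulo `y` -/
noncomputable def Vf (i : Fin k) (p q : Fin n) : AddSubgroup W where
  carrier := {w | h.tr i p q w + w ∈ Yy y}
  zero_mem' := by
    change h.tr i p q 0 + 0 ∈ Yy y
    rw [map_zero, add_zero]; exact (Yy y).zero_mem
  add_mem' := by
    intro a b ha hb
    change h.tr i p q (a + b) + (a + b) ∈ Yy y
    have h1 : h.tr i p q (a + b) + (a + b) = (h.tr i p q a + a) + (h.tr i p q b + b) := by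
      rw [map_add]; abel
    rw [h1]; exact (Yy y).add_mem ha hb
  neg_mem' := by
    intro a ha
    change h.tr i p q (-a) + -a ∈ Yy y
    have h1 : h.tr i p q (-a) + -a = -(h.tr i p q a + a) := by
      rw [map_neg]; abel
    rw [h1]; exact (Yy y).neg_mem ha

theorem mem_Vf {i : Fin k} {p q : Fin n} {w : W} : w ∈ h.Vf i p q ↔ h.tr i p q w + w ∈ Yy y := Iff.rfl

theorem ker_Vf {i : Fin k} {p q : Fin n} {w : W} (hw : e w = 0) : w ∈ h.Vf i p q := h.tr_Yy i p q hw

/-- the membership depends on `e w` only -/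
theorem Vf_of {i : Fin k} {p q : Fin n} {w w' : W} (hw : e w = e w') (h1 : w ∈ h.Vf i p q) : w' ∈ h.Vf i p q := by
  have h2 : e (w + w') = 0 := by rw [map_add, hw, ← map_add, addself, map_zero]
  have h3 := (h.Vf i p q).add_mem h1 (h.ker_Vf (i := i) (p := p) (q := q) h2)
  have h4 : w + (w + w') = w' := by linear_combination (norm := module) addself w
  rwa [h4] at h3

/-- (c1) -/
theorem comm_Vf {i : Fin k} {p q : Fin n} {A : Fin k → Equiv.Perm (Fin n)}
    (hA : Pi.mulSingle i (Equiv.swap p q) * A = A * Pi.mulSingle i (Equiv.swap p q)) {v : W}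
    (hv : e (h.tr i p q v) = e v) : v + h.L A v ∈ h.Vf i p q := by
  rw [mem_Vf]
  have hd : e (h.tr i p q v + v) = 0 := by rw [map_add, hv, ← map_add, addself, map_zero]
  have h1 : h.tr i p q (h.L A v) = h.L A (h.tr i p q v) := by
    change (h.L _ * h.L A) v = (h.L A * h.L _) v
    rw [← map_mul, hA, map_mul]
  have h2 := h.L_Yy A hd
  rw [map_add] at h2
  rw [map_add, h1]
  have h3 : h.tr i p q v + h.L A (h.tr i p q v) + (v + h.L A v) =
      h.L A (h.tr i p q v) + h.L A v + (h.tr i p q v + v) := by abel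
  rw [h3]; exact h2

/-- (c3) the pair `{p, q}` -/
theorem pq_Vf {i : Fin k} {p q r : Fin n} (hpq : p ≠ q) (hrp : r ≠ p) (hrq : r ≠ q) {v : W}
    (hv : e v = pr i p q) : v ∈ h.Vf i p q := by
  rw [mem_Vf]
  have hb : e (h.tr i p q v) = e v := by
    funext j x
    by_cases hj : j = i
    · subst hj
      rw [h.tr_e, hv, pr, Pi.single_eq_same, Pi.add_apply, Pi.add_apply]
      by_cases hx : x = p
      · subst hx
        rw [Equiv.swap_apply_left, Pi.single_eq_same, Pi.single_eq_same, Pi.single_eq_of_ne hpq,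
          Pi.single_eq_of_ne hpq.symm, add_comm]
      · by_cases hx2 : x = q
        · subst hx2
          rw [Equiv.swap_apply_right, Pi.single_eq_same, Pi.single_eq_same, Pi.single_eq_of_ne hpq,
            Pi.single_eq_of_ne hpq.symm, add_comm]
        · rw [Equiv.swap_apply_of_ne_of_ne hx hx2]
    · rw [h.tr_e_ne hj]
  have hd : e (h.tr i p q v + v) = 0 := by rw [map_add, hb, ← map_add, addself, map_zero]
  obtain ⟨d, hdd⟩ : ∃ d, d = h.tr i p q v + v := ⟨_, rfl⟩
  rw [← hdd] at hd ⊢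
  have ebv : h.tr i p q v = v + d := by rw [hdd]; linear_combination (norm := module) -addself v
  have r1 : ∀ w, h.tr i p q (h.tr i q r w) = h.tr i p r (h.tr i p q w) := by
    intro w
    change (h.L _ * h.L _) w = (h.L _ * h.L _) w
    rw [← map_mul, ← map_mul, ← Pi.mulSingle_mul, ← Pi.mulSingle_mul]
    have : Equiv.swap p q * Equiv.swap q r = Equiv.swap p r * Equiv.swap p q := by
      have h1 := Equiv.swap_mul_swap_mul_swap (x := q) (y := r) (z := p) hrq.symm hpq.symm
      rw [Equiv.swap_comm p q]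
      have h2 : Equiv.swap q p * Equiv.swap q r * Equiv.swap q p = Equiv.swap p r := by
        rw [Equiv.swap_comm q r]
        have := Equiv.mul_swap_eq_swap_mul (Equiv.swap q p) r q
        rw [this, Equiv.swap_apply_left, Equiv.swap_apply_of_ne_of_ne hrq hrp, mul_assoc, Equiv.swap_mul_self, mul_one,
          Equiv.swap_comm]
      rw [← h2, mul_assoc, Equiv.swap_mul_self, mul_one]
    rw [this]
  have r2 : ∀ w, h.tr i p q (h.tr i p r w) = h.tr i q r (h.tr i p q w) := by
    intro w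
    change (h.L _ * h.L _) w = (h.L _ * h.L _) w
    rw [← map_mul, ← map_mul, ← Pi.mulSingle_mul, ← Pi.mulSingle_mul]
    have : Equiv.swap p q * Equiv.swap p r = Equiv.swap q r * Equiv.swap p q := by
      rw [Equiv.mul_swap_eq_swap_mul (Equiv.swap p q) p r, Equiv.swap_apply_left,
        Equiv.swap_apply_of_ne_of_ne hrp hrq]
    rw [this]
  -- the sum of the three pairs
  have hs : e (v + h.tr i q r v + h.tr i p r v) = 0 := by
    funext j x
    rw [map_add, map_add, Pi.add_apply, Pi.add_apply, Pi.add_apply, Pi.add_apply]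
    by_cases hj : j = i
    · subst hj
      rw [h.tr_e, h.tr_e, hv, pr, Pi.single_eq_same]
      simp only [Pi.add_apply]
      have key : ∀ a b : Fin n, (Pi.single a 1 : Fin n → ZMod 2) b = if b = a then 1 else 0 := fun a b => by
        rw [Pi.single_apply]
      simp only [key, Pi.zero_apply]
      by_cases hx : x = p
      · subst hx
        rw [Equiv.swap_apply_left, Equiv.swap_apply_of_ne_of_ne hpq hrp.symm]
        simp [hpq, hrp, hrq]
        decide
      · by_cases hx2 : x = q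
        · subst hx2
          rw [Equiv.swap_apply_left, Equiv.swap_apply_of_ne_of_ne hpq.symm hrq.symm]
          simp [hpq.symm, hrp, hrq]
          decide
        · by_cases hx3 : x = r
          · subst hx3
            rw [Equiv.swap_apply_right, Equiv.swap_apply_right]
            simp [hpq, hpq.symm, hrp, hrq]
            decide
          · rw [Equiv.swap_apply_of_ne_of_ne hx2 hx3, Equiv.swap_apply_of_ne_of_ne hx hx3]
            simp [hx, hx2]
    · rw [h.tr_e_ne hj, h.tr_e_ne hj, hv, pr, Pi.single_eq_of_ne hj]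
      rfl
  have h1 := h.tr_Yy i p q hs
  rw [map_add, map_add, r1, r2, ebv, map_add, map_add] at h1
  have h2 := h.tr_Yy i q r hd
  have h3 := h.tr_Yy i p r hd
  have h4 := (Yy y).add_mem ((Yy y).add_mem h1 h2) h3
  have h5 : v + d + (h.tr i p r v + h.tr i p r d) + (h.tr i q r v + h.tr i q r d) + (v + h.tr i q r v + h.tr i p r v) +
      (h.tr i q r d + d) + (h.tr i p r d + d) = d := by
    linear_combination (norm := module) addself v + addself (h.tr i p r v) + addself (h.tr i q r v) +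
      addself (h.tr i p r d) + addself (h.tr i q r d) + addself d
  rwa [h5] at h4

/-- (c2) the pairs away from `{p, q}` -/
theorem pair_Vf (hn : 5 ≤ n) {i j : Fin k} {p q u s : Fin n} (hus : u ≠ s)
    (hj : j = i → (u ≠ p ∧ u ≠ q) ∧ (s ≠ p ∧ s ≠ q)) {w : W} (hw : e w = pr j u s) : w ∈ h.Vf i p q := by
  classical
  -- a third letter
  obtain ⟨r, hr⟩ : ∃ r : Fin n, r ∉ ({u, s, p, q} : Finset (Fin n)) := by
    by_contra hcon
    push Not at hcon
    have h1 : Fintype.card (Fin n) ≤ ({u, s, p, q} : Finset (Fin n)).card := by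
      rw [← Finset.card_univ]
      exact Finset.card_le_card fun x _ => hcon x
    rw [Fintype.card_fin] at h1
    have h2 : ({u, s, p, q} : Finset (Fin n)).card ≤ 4 := Finset.card_le_four
    omega
  simp only [Finset.mem_insert, Finset.mem_singleton, not_or] at hr
  obtain ⟨hru, hrs, hrp, hrq⟩ := hr
  obtain ⟨v, hv⟩ := h.surj (pr j r u) (pr_sum j r u)
  have key : ∀ a b : Fin n, (Pi.single a 1 : Fin n → ZMod 2) b = if b = a then 1 else 0 := fun a b => by
    rw [Pi.single_apply]
  -- `v` is fixed by `(p q)` modulo the kernel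
  have hb : e (h.tr i p q v) = e v := by
    funext j' x
    by_cases hj' : j' = i
    · subst hj'
      rw [h.tr_e, hv]
      by_cases hjj : j' = j
      · subst hjj
        obtain ⟨⟨a1, a2⟩, -⟩ := hj rfl
        rw [pr, Pi.single_eq_same]
        simp only [Pi.add_apply, key]
        by_cases hx : x = p
        · subst hx
          rw [Equiv.swap_apply_left, if_neg (Ne.symm hrq), if_neg a2.symm, if_neg (Ne.symm hrp), if_neg a1.symm]
        · by_cases hx2 : x = q
          · subst hx2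
            rw [Equiv.swap_apply_right, if_neg (Ne.symm hrq), if_neg a2.symm, if_neg (Ne.symm hrp), if_neg a1.symm]
          · rw [Equiv.swap_apply_of_ne_of_ne hx hx2]
      · rw [pr, Pi.single_eq_of_ne hjj]; rfl
    · rw [h.tr_e_ne hj']
  -- `(u s)` of the block `j` commutes with `(p q)` of the block `i`
  have hc : (Pi.mulSingle i (Equiv.swap p q) : Fin k → Equiv.Perm (Fin n)) * Pi.mulSingle j (Equiv.swap u s) =
      Pi.mulSingle j (Equiv.swap u s) * Pi.mulSingle i (Equiv.swap p q) := by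
    by_cases hji : j = i
    · subst hji
      obtain ⟨⟨a1, a2⟩, a3, a4⟩ := hj rfl
      rw [← Pi.mulSingle_mul, ← Pi.mulSingle_mul, Equiv.mul_swap_eq_swap_mul (Equiv.swap p q) u s,
        Equiv.swap_apply_of_ne_of_ne a1 a2, Equiv.swap_apply_of_ne_of_ne a3 a4]
    · funext j'
      rw [Pi.mul_apply, Pi.mul_apply]
      by_cases h1 : j' = i
      · subst h1
        rw [Pi.mulSingle_eq_of_ne (Ne.symm hji), mul_one, one_mul]
      · rw [Pi.mulSingle_eq_of_ne h1, mul_one, one_mul]
  have h1 := h.comm_Vf hc hb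
  refine h.Vf_of ?_ h1
  rw [hw]
  funext j' x
  rw [map_add, Pi.add_apply, Pi.add_apply]
  by_cases hjj : j' = j
  · subst hjj
    have e1 : e (h.L (Pi.mulSingle j' (Equiv.swap u s)) v) j' x = e v j' (Equiv.swap u s x) := h.tr_e j' u s v x
    rw [e1, hv, pr, pr, Pi.single_eq_same, Pi.single_eq_same]
    simp only [Pi.add_apply, key]
    by_cases hx : x = u
    · subst hx
      rw [Equiv.swap_apply_left, if_neg (Ne.symm hru), if_pos rfl, if_neg (Ne.symm hrs), if_neg (Ne.symm hus),
        if_neg hus]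
      decide
    · by_cases hx2 : x = s
      · subst hx2
        rw [Equiv.swap_apply_right, if_neg (Ne.symm hrs), if_neg (Ne.symm hus), if_neg (Ne.symm hru), if_pos rfl,
          if_pos rfl]
        decide
      · rw [Equiv.swap_apply_of_ne_of_ne hx hx2, if_neg hx, if_neg hx2]
        by_cases hx3 : x = r
        · rw [if_pos hx3]; decide
        · rw [if_neg hx3]; decide
  · have e1 : e (h.L (Pi.mulSingle j (Equiv.swap u s)) v) j' x = e v j' x := h.tr_e_ne hjj u s v x
    rw [e1, hv, pr, pr, Pi.single_eq_of_ne hjj, Pi.single_eq_of_ne hjj]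
    rfl

/-- vectors with `e w i p = e w i q = 0` -/
theorem zero_Vf (hn : 5 ≤ n) {i : Fin k} {p q : Fin n} {w : W} (hp : e w i p = 0) (hq : e w i q = 0) :
    w ∈ h.Vf i p q := by
  classical
  obtain ⟨r, hr⟩ : ∃ r : Fin n, r ∉ ({p, q} : Finset (Fin n)) := by
    by_contra hcon
    push Not at hcon
    have h1 : Fintype.card (Fin n) ≤ ({p, q} : Finset (Fin n)).card := by
      rw [← Finset.card_univ]
      exact Finset.card_le_card fun x _ => hcon x
    rw [Fintype.card_fin] at h1
    have h2 : ({p, q} : Finset (Fin n)).card ≤ 2 := Finset.card_le_two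
    omega
  simp only [Finset.mem_insert, Finset.mem_singleton, not_or] at hr
  have key : ∀ a b : Fin n, (Pi.single a 1 : Fin n → ZMod 2) b = if b = a then 1 else 0 := fun a b => by
    rw [Pi.single_apply]
  choose v hv using fun (j : Fin k) (x : Fin n) => h.surj (pr j r x) (pr_sum j r x)
  -- the sum
  have hsum : e w = e (∑ j, ∑ x, e w j x • v j x) := by
    rw [map_sum]
    funext j' x'
    rw [Finset.sum_apply, Finset.sum_apply]
    have e1 : ∀ j, e (∑ x, e w j x • v j x) j' x' = ∑ x, e w j x * pr j r x j' x' := by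
      intro j
      rw [map_sum, Finset.sum_apply, Finset.sum_apply]
      refine Finset.sum_congr rfl fun x _ => ?_
      rcases z2 (e w j x) with h0 | h0
      · rw [h0, zero_smul, map_zero, zero_mul]; rfl
      · rw [h0, one_smul, one_mul, hv]
    simp only [e1]
    rw [Finset.sum_eq_single j']
    · have e2 : ∀ x, e w j' x * pr j' r x j' x' =
          e w j' x * (if x' = r then 1 else 0) + if x = x' then e w j' x' else 0 := by
        intro x
        rw [pr, Pi.single_eq_same]
        simp only [Pi.add_apply, key]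
        by_cases hx : x = x'
        · subst hx; simp [mul_add]
        · rw [if_neg hx, if_neg (Ne.symm hx)]; simp
      simp only [e2]
      rw [Finset.sum_add_distrib, ← Finset.sum_mul, h.even, zero_mul, zero_add, Finset.sum_ite_eq']
      simp
    · intro j _ hj
      refine Finset.sum_eq_zero fun x _ => ?_
      rw [pr, Pi.single_eq_of_ne (Ne.symm hj), Pi.zero_apply, mul_zero]
    · intro hcon; exact absurd (Finset.mem_univ _) hcon
  refine h.Vf_of hsum.symm ?_
  refine AddSubgroup.sum_mem _ fun j _ => AddSubgroup.sum_mem _ fun x _ => ?_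
  rcases z2 (e w j x) with h0 | h0
  · rw [h0, zero_smul]; exact (h.Vf i p q).zero_mem
  · rw [h0, one_smul]
    by_cases hxr : r = x
    · refine h.ker_Vf ?_
      rw [hv, ← hxr, pr]
      funext j' x'
      have e3 : (Pi.single r 1 + Pi.single r 1 : Fin n → ZMod 2) = 0 := by
        funext z; exact CharTwo.add_self_eq_zero _
      rw [e3]
      simp
    · refine h.pair_Vf hn hxr (fun hj => ?_) (hv j x)
      subst hj
      refine ⟨⟨hr.1, hr.2⟩, ?_, ?_⟩
      · rintro rfl
        rw [hp] at h0; exact absurd h0 (by decide)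
      · rintro rfl
        rw [hq] at h0; exact absurd h0 (by decide)

/-- the transposition is a transvection -/
theorem eq_Vf (hn : 5 ≤ n) {i : Fin k} {p q : Fin n} (hpq : p ≠ q) {w : W} (hw : e w i p = e w i q) :
    w ∈ h.Vf i p q := by
  classical
  rcases z2 (e w i p) with h0 | h0
  · exact h.zero_Vf hn h0 (hw ▸ h0)
  · obtain ⟨r, hr⟩ : ∃ r : Fin n, r ∉ ({p, q} : Finset (Fin n)) := by
      by_contra hcon
      push Not at hcon
      have h1 : Fintype.card (Fin n) ≤ ({p, q} : Finset (Fin n)).card := by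
        rw [← Finset.card_univ]
        exact Finset.card_le_card fun x _ => hcon x
      rw [Fintype.card_fin] at h1
      have h2 : ({p, q} : Finset (Fin n)).card ≤ 2 := Finset.card_le_two
      omega
    simp only [Finset.mem_insert, Finset.mem_singleton, not_or] at hr
    obtain ⟨v, hv⟩ := h.surj (pr i p q) (pr_sum i p q)
    have h1 := h.pq_Vf hpq hr.1 hr.2 hv
    have ep : e (w + v) i p = 0 := by
      rw [map_add, Pi.add_apply, Pi.add_apply, h0, hv, pr, Pi.single_eq_same, Pi.add_apply, Pi.single_eq_same,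
        Pi.single_eq_of_ne hpq]
      decide
    have eq : e (w + v) i q = 0 := by
      rw [map_add, Pi.add_apply, Pi.add_apply, ← hw, h0, hv, pr, Pi.single_eq_same, Pi.add_apply, Pi.single_eq_same,
        Pi.single_eq_of_ne hpq.symm]
      decide
    have h2 := (h.Vf i p q).add_mem (h.zero_Vf hn ep eq) h1
    have h3 : w + v + v = w := by linear_combination (norm := module) addself v
    rwa [h3] at h2

theorem tr_sq (i : Fin k) (p q : Fin n) : h.tr i p q * h.tr i p q = 1 := by
  rw [tr, ← map_mul, ← Pi.mulSingle_mul, Equiv.swap_mul_self, Pi.mulSingle_one, map_one]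

/-- `⟨(p q)⟩` is exact -/
theorem ex_tr [Finite W] (hn : 5 ≤ n) (i : Fin k) {p q : Fin n} (hpq : p ≠ q) :
    MEx y (zpowers (h.tr i p q)) ∧ h.tr i p q ≠ 1 := by
  classical
  obtain ⟨r, hr⟩ : ∃ r : Fin n, r ∉ ({p, q} : Finset (Fin n)) := by
    by_contra hcon
    push Not at hcon
    have h1 : Fintype.card (Fin n) ≤ ({p, q} : Finset (Fin n)).card := by
      rw [← Finset.card_univ]
      exact Finset.card_le_card fun x _ => hcon x
    rw [Fintype.card_fin] at h1
    have h2 : ({p, q} : Finset (Fin n)).card ≤ 2 := Finset.card_le_two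
    omega
  simp only [Finset.mem_insert, Finset.mem_singleton, not_or] at hr
  obtain ⟨v, hv⟩ := h.surj (pr i p r) (pr_sum i p r)
  have evp : e v i p = 1 := by
    rw [hv, pr, Pi.single_eq_same, Pi.add_apply, Pi.single_eq_same, Pi.single_eq_of_ne (Ne.symm hr.1)]
    decide
  have evq : e v i q = 0 := by
    rw [hv, pr, Pi.single_eq_same, Pi.add_apply, Pi.single_eq_of_ne hpq.symm, Pi.single_eq_of_ne (Ne.symm hr.2)]
    decide
  have hne : h.tr i p q ≠ 1 := by
    intro h1
    have h2 := h.tr_e i p q v p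
    rw [h1, Equiv.swap_apply_left, evq] at h2
    change e v i p = 0 at h2
    rw [evp] at h2
    exact absurd h2 (by decide)
  refine ⟨?_, hne⟩
  -- the functional
  let f : W →+ ZMod 2 :=
    { toFun := fun w => e w i p + e w i q
      map_zero' := by rw [map_zero]; rfl
      map_add' := by
        intro a b
        rw [map_add]
        simp only [Pi.add_apply]
        ring }
  have hf : ∀ w, f w = e w i p + e w i q := fun w => rfl
  have hsurj : Function.Surjective f := by
    intro c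
    rcases z2 c with rfl | rfl
    · exact ⟨0, map_zero f⟩
    · exact ⟨v, by rw [hf, evp, evq]; decide⟩
  have hker : ∀ w, w ∈ f.ker ↔ w ∈ cm y (zpowers (h.tr i p q)) := by
    intro w
    rw [AddMonoidHom.mem_ker, hf]
    constructor
    · intro h1
      have h2 : e w i p = e w i q := CharTwo.add_eq_zero.1 h1
      have h3 := h.eq_Vf hn hpq h2
      rw [mem_Vf] at h3
      intro b hb
      obtain ⟨m, rfl⟩ := mem_zpowers_iff.1 hb
      rcases Int.even_or_odd' m with ⟨c, rfl | rfl⟩
      · left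
        rw [zpow_mul]
        have : h.tr i p q ^ (2 : ℤ) = 1 := by
          rw [show (2 : ℤ) = ((2 : ℕ) : ℤ) from rfl, zpow_natCast, pow_two]; exact h.tr_sq i p q
        rw [this, one_zpow]; rfl
      · have : h.tr i p q ^ (2 * c + 1) = h.tr i p q := by
          rw [zpow_add, zpow_mul, zpow_one]
          have : h.tr i p q ^ (2 : ℤ) = 1 := by
            rw [show (2 : ℤ) = ((2 : ℕ) : ℤ) from rfl, zpow_natCast, pow_two]; exact h.tr_sq i p q
          rw [this, one_zpow, one_mul]
        rw [this]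
        exact mod_iff.1 h3
    · intro h1
      have h2 := mod_iff.2 (h1 _ (mem_zpowers _))
      have h3 := h.toEk.e_Yy h2
      rw [map_add] at h3
      have h4 := congrFun (congrFun h3 i) p
      rw [Pi.add_apply, Pi.add_apply, h.tr_e, Equiv.swap_apply_left] at h4
      rw [add_comm]; exact h4
  have hc2 : Nat.card (zpowers (h.tr i p q)) = 2 := by
    rw [Nat.card_zpowers]
    exact orderOf_eq_prime (by rw [pow_two]; exact h.tr_sq i p q) hne
  have h1 : Nat.card f.ker * f.ker.index = Nat.card W := f.ker.card_mul_index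
  have h2 : f.ker.index = 2 := by
    rw [AddSubgroup.index_ker, AddMonoidHom.range_eq_top.2 hsurj]
    rw [AddSubgroup.card_top]
    exact Nat.card_zmod 2
  have h3 : Nat.card f.ker = Nat.card (cm y (zpowers (h.tr i p q))) := Nat.card_congr (Equiv.subtypeEquivRight hker)
  rw [h2, h3] at h1
  unfold MEx
  rw [hc2, ← h1, mul_comm]

end SymW

end Cfsg.Agent.Omega.FOne.Act

end

section


/-!
# (F1'), the minimal parabolic case: the FF theorem for `W / y`
-/

set_option autoImplicit false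
set_option linter.unusedSectionVars false

namespace Cfsg.Agent.Omega.FOne.Act

open Subgroup
open Cfsg.Agent.Lib.SL2Mat Cfsg.Agent.Omega.NatPair Cfsg.Agent.Omega.FFBr
open Cfsg.Agent.Omega.FOne.Tvw (Base addself z2 eq_of_add_eq_zero' ap_inv inv_ap)
open Cfsg.Agent.Omega.FOne.AT
open Cfsg.Agent.Omega.FOne.NOv (cm MEx MAtom)

universe u

variable {W : Type u} [AddCommGroup W] [Module (ZMod 2) W]

/-- `W / y`, written multiplicatively -/
abbrev MV (y : W) : Type u := Multiplicative (W ⧸ Yy y)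

/-- the projection -/
def mk (y w : W) : MV y := Multiplicative.ofAdd (QuotientAddGroup.mk w)

theorem mk_add (y a b : W) : mk y (a + b) = mk y a * mk y b := rfl

theorem mk_surj {y : W} (v : MV y) : ∃ w, mk y w = v := by
  obtain ⟨w, hw⟩ := QuotientAddGroup.mk_surjective (Multiplicative.toAdd v)
  exact ⟨w, congrArg Multiplicative.ofAdd hw⟩

theorem mk_eq {y a b : W} : mk y a = mk y b ↔ a + b ∈ Yy y := by
  have h1 : mk y a = mk y b ↔ (QuotientAddGroup.mk a : W ⧸ Yy y) = QuotientAddGroup.mk b := Iff.rfl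
  rw [h1, QuotientAddGroup.eq]
  have h2 : -a = a := neg_eq_of_add_eq_zero_left (addself a)
  rw [h2]

theorem mk_one {y a : W} : mk y a = 1 ↔ a ∈ Yy y := by
  have h1 : (1 : MV y) = mk y 0 := rfl
  rw [h1, mk_eq, add_zero]

variable {H : Subgroup (W ≃ₗ[ZMod 2] W)} {y : W}

theorem map_le (hf : ∀ h ∈ H, h y = y) (h : H) :
    Yy y ≤ (Yy y).comap (lin (h : W ≃ₗ[ZMod 2] W)) := by
  intro a ha
  rw [AddSubgroup.mem_comap]
  rcases ha with rfl | rfl
  · rw [map_zero]; exact (Yy y).zero_mem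
  · change (h : W ≃ₗ[ZMod 2] W) a ∈ Yy a
    rw [hf h h.2]; exact y_mem a

/-- `H` acts on `W / y` -/
@[reducible] def act (hf : ∀ h ∈ H, h y = y) : MulDistribMulAction H (MV y) where
  smul h v := Multiplicative.ofAdd (QuotientAddGroup.map (Yy y) (Yy y) (lin (h : W ≃ₗ[ZMod 2] W)) (map_le hf h)
    (Multiplicative.toAdd v))
  one_smul v := by
    obtain ⟨w, rfl⟩ := mk_surj v
    rfl
  mul_smul g h v := by
    obtain ⟨w, rfl⟩ := mk_surj v
    rfl
  smul_mul g v w := by
    change Multiplicative.ofAdd (QuotientAddGroup.map (Yy y) (Yy y) (lin (g : W ≃ₗ[ZMod 2] W)) (map_le hf g)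
      (Multiplicative.toAdd v + Multiplicative.toAdd w)) = _
    rw [map_add]
    rfl
  smul_one g := by
    change Multiplicative.ofAdd (QuotientAddGroup.map (Yy y) (Yy y) (lin (g : W ≃ₗ[ZMod 2] W)) (map_le hf g) 0) = _
    rw [map_zero]
    rfl

/-- an action of `H` on `W / y` which is the natural one -/
structure IsA (H : Subgroup (W ≃ₗ[ZMod 2] W)) (y : W) [MulDistribMulAction H (MV y)] : Prop where
  smul : ∀ (h : H) (w : W), h • mk y w = mk y ((h : W ≃ₗ[ZMod 2] W) w)

theorem isA_act (hf : ∀ h ∈ H, h y = y) : @IsA W _ _ H y (act hf) := @IsA.mk W _ _ H y (act hf) fun _ _ => rfl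

/-- the functional of `V` as a functional of `W` -/
def pull {E : Type*} [AddCommGroup E] (e : MV y → E) (he : ∀ v w, e (v * w) = e v + e w) : W →+ E :=
  AddMonoidHom.mk' (fun w => e (mk y w)) fun a b => by rw [mk_add, he]

section

variable [MulDistribMulAction H (MV y)]

theorem kinv_odd (h : H) {v : MV y} (hv : v ∈ odd H (MV y)) : h • v ∈ odd H (MV y) := by
  intro x hx
  have h1 : (h⁻¹ * x * h) • v = v := hv _ (by
    have : orderOf (h⁻¹ * x * h) = orderOf x := by
      have e1 : (MulAut.conj h⁻¹) x = h⁻¹ * x * h := by simp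
      rw [← e1]
      exact MulEquiv.orderOf_eq _ x
    rw [this]; exact hx)
  have h2 := congrArg (fun z => h • z) h1
  simp only [smul_smul] at h2
  rw [smul_smul]
  have e2 : h * (h⁻¹ * x * h) = x * h := by group
  rw [e2] at h2
  exact h2

variable (hA : IsA H y)
include hA

theorem ek_pull (b : Base H y) {E : Type*} [AddCommGroup E] {e : MV y → E} (he : ∀ v w, e (v * w) = e v + e w)
    (hker : ∀ v, e v = 0 ↔ v ∈ odd H (MV y)) : Ek H y (pull e he) where
  base := b
  ey := by
    change e (mk y y) = 0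
    have h1 : mk y y = 1 := mk_one.2 (y_mem y)
    rw [h1, hker]
    exact (odd H (MV y)).one_mem
  kinv := by
    intro h hh w hw
    change e (mk y (h w)) = 0
    change e (mk y w) = 0 at hw
    rw [hker] at hw ⊢
    have h1 := kinv_odd ⟨h, hh⟩ hw
    rw [hA.smul] at h1
    exact h1

theorem tr_of (b : Base H y) {E : Type*} [AddCommGroup E] {e : MV y → E} (he : ∀ v w, e (v * w) = e v + e w)
    (hker : ∀ v, e v = 0 ↔ v ∈ odd H (MV y)) {g : H} (hg : ∀ d ∈ odd H (MV y), g • d = d) {w : W}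
    (hw : pull e he w = 0) : (g : W ≃ₗ[ZMod 2] W) w + w ∈ Yy y := by
  have h1 := hg (mk y w) ((hker _).1 hw)
  rw [hA.smul] at h1
  exact mk_eq.1 h1

/-- the natural case -/
theorem natW_of (b : Base H y) {T : Subgroup (W ≃ₗ[ZMod 2] W)} (hTH : T ≤ H) {F : Type} [Field F] {k : ℕ}
    (n : AbsNat F (T.subgroupOf H) (MV y) k) : NatW H y T (pull n.e n.mul) where
  toEk := ek_pull hA b n.mul n.ker
  TH := hTH
  surj := by
    intro x
    obtain ⟨v, hv⟩ := n.surj x
    obtain ⟨w, rfl⟩ := mk_surj v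
    exact ⟨w, hv⟩
  lift := by
    intro A
    obtain ⟨g, h1, h2⟩ := n.lift A
    refine ⟨g, g.2, fun w i => ?_, fun w hw => tr_of hA b n.mul n.ker h2 hw⟩
    have := h1 (mk y w) i
    rw [hA.smul] at this
    exact this
  norm := by
    intro g hg x hx A hA'
    obtain ⟨B, hB⟩ := n.norm ⟨g, hg⟩ ⟨x, hx⟩ A (fun v i => by
      obtain ⟨w, rfl⟩ := mk_surj v
      rw [hA.smul]
      exact hA' w i)
    refine ⟨B, fun w i => ?_⟩
    have := hB (mk y w) i
    rw [hA.smul] at this
    exact this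
  line := by
    intro t ht
    obtain ⟨σ, hσ⟩ := n.line ⟨t, hTH ht⟩ ht
    refine ⟨σ, fun w i => ?_⟩
    have := hσ (mk y w) i
    rw [hA.smul] at this
    exact this
  unip := by
    intro b'
    obtain ⟨t, ht, h1, h2⟩ := n.unip b'
    refine ⟨t, ht, fun w i => ?_, fun w hw => tr_of hA b n.mul n.ker h2 hw⟩
    have := h1 (mk y w) i
    rw [hA.smul] at this
    exact this

/-- the symmetric case -/
theorem symW_of (b : Base H y) {T : Subgroup H} {k m : ℕ} (n : AbsSym T (MV y) k m) :
    SymW H y (pull n.e n.mul) where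
  toEk := ek_pull hA b n.mul n.ker
  even := fun w i => n.even (mk y w) i
  surj := by
    intro z hz
    obtain ⟨v, hv⟩ := n.surj z hz
    obtain ⟨w, rfl⟩ := mk_surj v
    exact ⟨w, hv⟩
  lift := by
    intro τ
    obtain ⟨g, h1, h2⟩ := n.lift τ
    refine ⟨g, g.2, fun w i x => ?_, fun w hw => tr_of hA b n.mul n.ker h2 hw⟩
    have := h1 (mk y w) i x
    rw [hA.smul] at this
    exact this

end

end Cfsg.Agent.Omega.FOne.Act

end

section


/-!
# (F1'), the minimal parabolic case

`false_of_min` : `H` is not minimal parabolic (`T` is in at least two maximal subgroups), from the FF theorem and the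
swap of `θ`, `θ + y` by `T`.
-/

set_option autoImplicit false
set_option linter.unusedSectionVars false

namespace Cfsg.Agent.Omega.FOne.Act

open Subgroup
open Cfsg.Agent.Lib.SL2Mat Cfsg.Agent.Omega.NatPair Cfsg.Agent.Omega.FFBr
open Cfsg.Agent.Omega.FOne.Tvw (Base addself z2 eq_of_add_eq_zero' ap_inv inv_ap)
open Cfsg.Agent.Omega.FOne.AT
open Cfsg.Agent.Omega.FOne.NOv (cm MEx MAtom)
open Cfsg.Agent.ClassTwoFusion.Quad (cv mem_cv)

universe u

variable {W : Type u} [AddCommGroup W] [Module (ZMod 2) W] {H : Subgroup (W ≃ₗ[ZMod 2] W)} {y : W}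

/-- the projection as a homomorphism -/
def mkH (y : W) : Multiplicative W →* MV y := AddMonoidHom.toMultiplicative (QuotientAddGroup.mk' (Yy y))

theorem mkH_apply (y w : W) : mkH y (Multiplicative.ofAdd w) = mk y w := rfl

theorem mkH_surj (y : W) : Function.Surjective (mkH y) := fun v => by
  obtain ⟨w, hw⟩ := mk_surj v
  exact ⟨Multiplicative.ofAdd w, hw⟩

section

variable [Finite W] [MulDistribMulAction H (MV y)] (hA : IsA H y)
include hA

/-- exactness on `W / y` -/
theorem index_cv {B : Subgroup (W ≃ₗ[ZMod 2] W)} (hBH : B ≤ H) (ex : MEx y B) :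
    (cv (MV y) ((B.subgroupOf H : Subgroup H) : Set H)).index = Nat.card B := by
  classical
  have h1 := Subgroup.index_comap_of_surjective (cv (MV y) ((B.subgroupOf H : Subgroup H) : Set H)) (mkH_surj y)
  rw [← h1]
  set C := (cv (MV y) ((B.subgroupOf H : Subgroup H) : Set H)).comap (mkH y) with hC
  have h2 : Nat.card C = Nat.card (cm y B) := by
    refine Nat.card_congr (Equiv.subtypeEquiv Multiplicative.toAdd fun w => ?_)
    obtain ⟨w, rfl⟩ := Multiplicative.ofAdd.surjective w
    rw [hC, mem_comap, mem_cv]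
    change (∀ a ∈ (B.subgroupOf H : Set H), a • mk y w = mk y w) ↔ ∀ b ∈ B, b w = w ∨ b w = w + y
    constructor
    · intro h3 b hb
      have h4 := h3 ⟨b, hBH hb⟩ hb
      rw [hA.smul, mk_eq] at h4
      exact mod_iff.1 h4
    · intro h3 a ha
      rw [hA.smul, mk_eq]
      exact mod_iff.2 (h3 _ ha)
  have h3 : Nat.card C * C.index = Nat.card W := C.card_mul_index
  rw [h2] at h3
  unfold MEx at ex
  have hpos : 0 < Nat.card (cm y B) := by
    have : Nonempty (cm y B) := ⟨⟨0, Cfsg.Agent.Omega.FOne.NOv.zero_mem_cm⟩⟩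
    exact Nat.card_pos
  refine Nat.eq_of_mul_eq_mul_left hpos ?_
  rw [h3, ← ex, mul_comm]

theorem aOff_of {B : Subgroup (W ≃ₗ[ZMod 2] W)} (hBH : B ≤ H) (sq : ∀ b ∈ B, b * b = 1) (hne : B ≠ ⊥)
    (ex : MEx y B) : AOff (MV y) (B.subgroupOf H) where
  comm := by
    intro a ha b hb
    have h1 := sq _ (B.mul_mem ha hb)
    have ha2 := sq _ ha
    have hb2 := sq _ hb
    apply Subtype.ext
    change (a : W ≃ₗ[ZMod 2] W) * b = b * a
    have h2 : ((a : W ≃ₗ[ZMod 2] W) * b)⁻¹ = a * b := inv_eq_of_mul_eq_one_left h1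
    have ha3 : (a : W ≃ₗ[ZMod 2] W)⁻¹ = a := inv_eq_of_mul_eq_one_left ha2
    have hb3 : (b : W ≃ₗ[ZMod 2] W)⁻¹ = b := inv_eq_of_mul_eq_one_left hb2
    rw [← h2, mul_inv_rev, ha3, hb3]
  sq := fun a ha => Subtype.ext (sq _ ha)
  ne := by
    intro h
    apply hne
    rw [eq_bot_iff]
    intro b hb
    have h1 : (⟨b, hBH hb⟩ : H) ∈ B.subgroupOf H := hb
    rw [h, mem_bot] at h1
    exact mem_bot.2 (congrArg Subtype.val h1)
  le := by
    rw [index_cv hA hBH ex]
    exact (Nat.card_congr (Subgroup.subgroupOfEquivOfLe hBH).toEquiv).ge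

end

/-- if every element of `H` is trivial on `W / y`, then `H = 1` -/
theorem false_of_triv {T : Subgroup (W ≃ₗ[ZMod 2] W)} (TH : T ≤ H)
    (fix : ∀ w, (∀ t ∈ T, t w = w) → w = 0 ∨ w = y) {θ : W} (θ0 : θ ≠ 0) (θy : θ ≠ y) (h1 : H = ⊥) : False := by
  rcases fix θ (fun t ht => by
    have h2 := TH ht
    rw [h1, mem_bot] at h2
    rw [h2]; rfl) with h | h
  · exact θ0 h
  · exact θy h

/-- **the minimal parabolic case**, from the FF theorem -/
theorem false_of_min (hFF : AStmt.{u}) [Finite W] (base : Base H y) {T : Subgroup (W ≃ₗ[ZMod 2] W)} (TH : T ≤ H)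
    (two : IsPGroup 2 T) (syl : ¬ 2 ∣ T.relIndex H) (fix : ∀ w, (∀ t ∈ T, t w = w) → w = 0 ∨ w = y) {θ : W}
    (θ0 : θ ≠ 0) (θy : θ ≠ y) (Tθ : ∀ t ∈ T, t θ + θ ∈ Yy y)
    (gen : ∀ U : Submodule (ZMod 2) W, y ∈ U → (∀ x ∈ H, x θ ∈ U) → U = ⊤) {B : Subgroup (W ≃ₗ[ZMod 2] W)}
    (BT : B ≤ T) (sq : ∀ b ∈ B, b * b = 1) (hB : MAtom y B) (h4 : 4 ≤ Nat.card B)
    {M0 : Subgroup (W ≃ₗ[ZMod 2] W)} (hM0 : ¬ H ≤ M0) (max : ∀ K, T ≤ K → K ≤ H → K ≤ M0 ∨ K = H) : False := by
  classical
  have hfin : Finite (W ≃ₗ[ZMod 2] W) := DFunLike.finite _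
  let ia : MulDistribMulAction H (MV y) := act base.fix
  have hA : IsA H y := isA_act base.fix
  have hBH := BT.trans TH
  have hHne : H ≠ ⊥ := fun h => false_of_triv TH fix θ0 θy h
  have hTM : T ≤ M0 := by
    rcases max T le_rfl TH with h | h
    · exact h
    · exfalso
      exact hHne (base.core H le_rfl (fun g hg n hn => H.mul_mem (H.mul_mem hg hn) (H.inv_mem hg)) (h ▸ two))
  -- the Sylow group
  have hT2 : IsPGroup 2 (T.subgroupOf H) := two.comap_of_injective H.subtype H.subtype_injective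
  have hTi : ¬ 2 ∣ (T.subgroupOf H).index := syl
  let S : Sylow 2 H := hT2.toSylow hTi
  have hS : (S : Subgroup H) = T.subgroupOf H := rfl
  have hmem : ∀ x : H, x ∈ S ↔ (x : W ≃ₗ[ZMod 2] W) ∈ T := fun x => Iff.rfl
  have hfixθ : ∀ t ∈ S, t • mk y θ = mk y θ := by
    intro t ht
    rw [hA.smul, mk_eq]
    exact Tθ _ ht
  have abs : Abs H (MV y) S (M0.subgroupOf H) :=
    { comm := fun v w => mul_comm v w
      sq := by
        intro v
        obtain ⟨w, rfl⟩ := mk_surj v
        rw [← mk_add, addself, mk_one]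
        exact (Yy y).zero_mem
      faith := by
        intro x hx
        apply Subtype.ext
        refine Base.one_of base x.2 fun w => ?_
        have := hx (mk y w)
        rw [hA.smul, mk_eq] at this
        exact this
      core := by
        intro N hN hN2
        have h1 := base.core (N.map H.subtype) (map_subtype_le N) (by
          rintro h hh _ ⟨n, hn, rfl⟩
          exact ⟨⟨h, hh⟩ * n * ⟨h, hh⟩⁻¹, hN.conj_mem n hn ⟨h, hh⟩, rfl⟩) (hN2.map H.subtype)
        exact (map_eq_bot_iff_of_injective N H.subtype_injective).1 h1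
      TM := fun x hx => hTM hx
      Mne := by
        intro h
        apply hM0
        intro x hx
        have h1 : (⟨x, hx⟩ : H) ∈ M0.subgroupOf H := by rw [h]; exact mem_top _
        exact h1
      max := by
        intro K hK
        have h1 : T ≤ K.map H.subtype := fun t ht => ⟨⟨t, TH ht⟩, hK ht, rfl⟩
        rcases max _ h1 (map_subtype_le K) with h2 | h2
        · left
          intro x hx
          exact h2 ⟨x, hx, rfl⟩
        · right
          rw [eq_top_iff]
          intro x _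
          have h3 : (x : W ≃ₗ[ZMod 2] W) ∈ K.map H.subtype := by rw [h2]; exact x.2
          obtain ⟨z, hz, hzx⟩ := h3
          have : z = x := Subtype.ext hzx
          rwa [← this]
      gen := by
        intro U hU
        let U' : Submodule (ZMod 2) W :=
          { carrier := {w | mk y w ∈ U}
            zero_mem' := U.one_mem
            add_mem' := fun {a b} ha hb => U.mul_mem ha hb
            smul_mem' := by
              intro c w hw
              rcases z2 c with rfl | rfl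
              · rw [zero_smul]; exact U.one_mem
              · rw [one_smul]; exact hw }
        have h1 : U' = ⊤ := gen U' (by
          change mk y y ∈ U
          rw [mk_one.2 (y_mem y)]; exact U.one_mem) fun x hx => by
            change mk y (x θ) ∈ U
            have h2 := hU (mk y θ) (fun t ht => hfixθ t ht) ⟨x, hx⟩
            rw [hA.smul] at h2
            exact h2
        rw [eq_top_iff]
        intro v _
        obtain ⟨w, rfl⟩ := mk_surj v
        have h2 : w ∈ U' := by rw [h1]; exact Submodule.mem_top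
        exact h2
      nfix := by
        refine ⟨mk y θ, hfixθ, ?_⟩
        by_contra hcon
        push Not at hcon
        -- `H` is trivial on `W / y`
        let U : Submodule (ZMod 2) W :=
          { carrier := {w | ∀ x ∈ H, x w + w ∈ Yy y}
            zero_mem' := fun x _ => by rw [map_zero, add_zero]; exact (Yy y).zero_mem
            add_mem' := by
              intro a b ha hb x hx
              have e1 : x (a + b) + (a + b) = (x a + a) + (x b + b) := by rw [map_add]; abel
              rw [e1]; exact (Yy y).add_mem (ha x hx) (hb x hx)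
            smul_mem' := by
              intro c w hw x hx
              rcases z2 c with rfl | rfl
              · rw [zero_smul, map_zero, add_zero]; exact (Yy y).zero_mem
              · rw [one_smul]; exact hw x hx }
        have hθ : ∀ x ∈ H, x θ + θ ∈ Yy y := by
          intro x hx
          have := hcon ⟨x, hx⟩
          rw [hA.smul, mk_eq] at this
          exact this
        have h1 : U = ⊤ := gen U (fun x hx => by
          rw [base.fix x hx, addself]; exact (Yy y).zero_mem) fun x hx g hg => by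
            have h2 := hθ x hx
            have h3 := hθ (g * x) (H.mul_mem hg hx)
            change g (x θ) + θ ∈ Yy y at h3
            have e1 : g (x θ) + x θ = g (x θ) + θ + (x θ + θ) := by
              linear_combination (norm := module) -addself θ
            rw [e1]; exact (Yy y).add_mem h3 h2
        apply hHne
        rw [eq_bot_iff]
        intro x hx
        rw [mem_bot]
        refine Base.one_of base hx fun w => ?_
        have h2 : w ∈ U := by rw [h1]; exact Submodule.mem_top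
        exact h2 x hx }
  have hoff := aOff_of hA hBH sq hB.ne hB.ex
  obtain ⟨-, hC⟩ := hFF H (MV y) S (M0.subgroupOf H) abs ⟨_, hoff⟩
  rcases hC with ⟨F, iF, fF, cF, k, hk, ⟨n⟩⟩ | ⟨k, m, hk, hm, ⟨n⟩⟩
  · have h1 : NatW H y T (pull n.e n.mul) := natW_of hA base TH n
    by_cases hν : ∃ ν : F, ν ≠ 0 ∧ ν ≠ 1
    · let _ := Fintype.ofFinite F
      exact h1.false_big hν hk two syl fix Tθ gen
    · push Not at hν
      exact h1.false_two (fun x => by
        by_cases hx : x = 0
        · exact Or.inl hx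
        · exact Or.inr (hν x hx)) hk two fix
  · have h1 : SymW H y (pull n.e n.mul) := symW_of hA base n
    have hBS : B.subgroupOf H ≤ (S : Subgroup H) := fun x hx => BT hx
    obtain ⟨h2, h3⟩ := n.off _ hBS hoff
    obtain ⟨a, ha, ha1⟩ : ∃ a ∈ B, a ≠ 1 := by
      by_contra hcon
      push Not at hcon
      exact hB.ne (by rw [eq_bot_iff]; exact fun x hx => mem_bot.2 (hcon x hx))
    obtain ⟨τ, hτ, hτ2⟩ := h3 ⟨a, hBH ha⟩ ha
    obtain ⟨i, x, hx⟩ : ∃ i x, τ i x ≠ x := by
      by_contra hcon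
      push Not at hcon
      apply ha1
      refine h1.toEk.uniq (hBH ha) (fun w => ?_) fun w hw => tr_of hA base n.mul n.ker (h2 ⟨a, hBH ha⟩ ha) hw
      funext i x
      have h5 := hτ (mk y w) i x
      rw [hA.smul, hcon i x] at h5
      exact h5
    obtain ⟨-, b, hb, hb2⟩ := hτ2 i x hx
    have hbe : (b : W ≃ₗ[ZMod 2] W) = h1.tr i x (τ i x) := by
      refine h1.eq_L b.2 (fun w j z => ?_) fun w hw => tr_of hA base n.mul n.ker (h2 b hb) hw
      have h5 := hb2 (mk y w) j z
      rw [hA.smul] at h5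
      exact h5
    have hn : 5 ≤ 2 ^ m + 1 := by
      have : 2 ^ 2 ≤ 2 ^ m := Nat.pow_le_pow_right (by norm_num) hm
      omega
    obtain ⟨h6, h7⟩ := h1.ex_tr hn i (Ne.symm hx)
    rw [← hbe] at h6 h7
    have h8 : zpowers (b : W ≃ₗ[ZMod 2] W) ≤ B := zpowers_le.2 hb
    have h9 := hB.min _ h8 (by
      intro h
      exact h7 (zpowers_eq_bot.1 h)) h6
    have h10 : Nat.card (zpowers (b : W ≃ₗ[ZMod 2] W)) ≤ 2 := by
      rw [Nat.card_zpowers]
      refine Nat.le_of_dvd (by norm_num) (orderOf_dvd_of_pow_eq_one ?_)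
      rw [pow_two]; exact sq _ hb
    rw [h9] at h10
    omega

end Cfsg.Agent.Omega.FOne.Act

end

section


/-!
# (F1), the minimal parabolic case over `R`: sums of even-subset modules of `S_n`

A transposition lift is a transvection of `W / R`, so an atom has order 2.
-/

set_option autoImplicit false
set_option linter.unusedSectionVars false

namespace Cfsg.Agent.Omega.FOne.ActR

open Subgroup
open Cfsg.Agent.Omega.FOne.Tvw (Base addself z2 eq_of_add_eq_zero' ap_inv inv_ap)
open Cfsg.Agent.Omega.FOne.AT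
open Cfsg.Agent.Omega.FOne.Act (pr pr_sum)

variable {W : Type*} [AddCommGroup W] [Module (ZMod 2) W] {k n : ℕ}

/-- the conclusion of the FF theorem in the symmetric case, for `W / R` -/
structure SymW (H : Subgroup (W ≃ₗ[ZMod 2] W)) (R : AddSubgroup W) (e : W →+ (Fin k → Fin n → ZMod 2)) : Prop
    extends Ek H R e where
  even : ∀ w i, ∑ x, e w i x = 0
  surj : ∀ z : Fin k → Fin n → ZMod 2, (∀ i, ∑ x, z i x = 0) → ∃ w, e w = z
  lift : ∀ τ : Fin k → Equiv.Perm (Fin n), ∃ g ∈ H, (∀ w i x, e (g w) i (τ i x) = e w i x) ∧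
    ∀ w, e w = 0 → g w + w ∈ R

/-- the preimage in `W` of the fixed points of `B` on `W / R` -/
def cmR (R : AddSubgroup W) (B : Subgroup (W ≃ₗ[ZMod 2] W)) : Set W := {w | ∀ b ∈ B, b w + w ∈ R}

/-- `B` is exact on `W / R` -/
def MExR (R : AddSubgroup W) (B : Subgroup (W ≃ₗ[ZMod 2] W)) : Prop :=
  Nat.card B * Nat.card (cmR R B) = Nat.card W

/-- a minimal exact group -/
structure MAtomR (R : AddSubgroup W) (B : Subgroup (W ≃ₗ[ZMod 2] W)) : Prop where
  ne : B ≠ ⊥
  ex : MExR R B
  min : ∀ B' ≤ B, B' ≠ ⊥ → MExR R B' → B' = B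

namespace SymW

variable {H : Subgroup (W ≃ₗ[ZMod 2] W)} {R : AddSubgroup W} {e : W →+ (Fin k → Fin n → ZMod 2)}
variable (h : SymW H R e)

/-- the lift -/
noncomputable def L : (Fin k → Equiv.Perm (Fin n)) →* (W ≃ₗ[ZMod 2] W) :=
  MonoidHom.mk' (fun A => (h.lift A).choose) fun A B => by
    obtain ⟨h1, h2, h3⟩ := (h.lift (A * B)).choose_spec
    obtain ⟨a1, a2, a3⟩ := (h.lift A).choose_spec
    obtain ⟨b1, b2, b3⟩ := (h.lift B).choose_spec
    refine h.toEk.uniq2 h1 (H.mul_mem a1 b1) (fun w => ?_) h3 fun w hw => ?_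
    · funext i x
      change _ = e ((h.lift A).choose ((h.lift B).choose w)) i x
      obtain ⟨z, rfl⟩ := (A i).surjective x
      obtain ⟨x, rfl⟩ := (B i).surjective z
      rw [a2, b2]
      exact h2 w i x
    · change (h.lift A).choose ((h.lift B).choose w) + w ∈ R
      have h4 := b3 w hw
      have h5 := a3 ((h.lift B).choose w) (h.kinv _ b1 w hw)
      have h6 : (h.lift A).choose ((h.lift B).choose w) + w =
          (h.lift A).choose ((h.lift B).choose w) + (h.lift B).choose w + ((h.lift B).choose w + w) := by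
        linear_combination (norm := module) -addself ((h.lift B).choose w)
      rw [h6]
      exact R.add_mem h5 h4

theorem L_mem (A : Fin k → Equiv.Perm (Fin n)) : h.L A ∈ H := (h.lift A).choose_spec.1

theorem L_e (A : Fin k → Equiv.Perm (Fin n)) (w : W) (i : Fin k) (x : Fin n) :
    e (h.L A w) i (A i x) = e w i x := (h.lift A).choose_spec.2.1 w i x

theorem L_e' (A : Fin k → Equiv.Perm (Fin n)) (w : W) (i : Fin k) (x : Fin n) :
    e (h.L A w) i x = e w i ((A i)⁻¹ x) := by
  have := h.L_e A w i ((A i)⁻¹ x)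
  rwa [show (A i) ((A i)⁻¹ x) = x from (A i).apply_symm_apply x] at this

theorem L_R (A : Fin k → Equiv.Perm (Fin n)) {w : W} (hw : e w = 0) : h.L A w + w ∈ R :=
  (h.lift A).choose_spec.2.2 w hw

theorem eq_L {g : W ≃ₗ[ZMod 2] W} (hg : g ∈ H) {A : Fin k → Equiv.Perm (Fin n)}
    (h1 : ∀ w i x, e (g w) i (A i x) = e w i x) (h2 : ∀ w, e w = 0 → g w + w ∈ R) : g = h.L A :=
  h.toEk.uniq2 hg (h.L_mem A) (fun w => by
    funext i x
    obtain ⟨z, rfl⟩ := (A i).surjective x
    rw [h1, L_e]) h2 fun w hw => h.L_R A hw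

/-- the transposition `(p q)` of the block `i` -/
noncomputable def tr (i : Fin k) (p q : Fin n) : W ≃ₗ[ZMod 2] W := h.L (Pi.mulSingle i (Equiv.swap p q))

theorem tr_mem (i : Fin k) (p q : Fin n) : h.tr i p q ∈ H := h.L_mem _

theorem tr_e (i : Fin k) (p q : Fin n) (w : W) (x : Fin n) : e (h.tr i p q w) i x = e w i (Equiv.swap p q x) := by
  rw [tr, h.L_e', Pi.mulSingle_eq_same, Equiv.swap_inv]

theorem tr_e_ne {i j : Fin k} (hj : j ≠ i) (p q : Fin n) (w : W) (x : Fin n) : e (h.tr i p q w) j x = e w j x := by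
  rw [tr, h.L_e', Pi.mulSingle_eq_of_ne hj]; rfl

theorem tr_R (i : Fin k) (p q : Fin n) {w : W} (hw : e w = 0) : h.tr i p q w + w ∈ R := h.L_R _ hw

/-- the fixed space of the transposition, modulo `R` -/
noncomputable def Vf (i : Fin k) (p q : Fin n) : AddSubgroup W where
  carrier := {w | h.tr i p q w + w ∈ R}
  zero_mem' := by
    change h.tr i p q 0 + 0 ∈ R
    rw [map_zero, add_zero]; exact R.zero_mem
  add_mem' := by
    intro a b ha hb
    change h.tr i p q (a + b) + (a + b) ∈ R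
    have h1 : h.tr i p q (a + b) + (a + b) = (h.tr i p q a + a) + (h.tr i p q b + b) := by
      rw [map_add]; abel
    rw [h1]; exact R.add_mem ha hb
  neg_mem' := by
    intro a ha
    change h.tr i p q (-a) + -a ∈ R
    have h1 : h.tr i p q (-a) + -a = -(h.tr i p q a + a) := by
      rw [map_neg]; abel
    rw [h1]; exact R.neg_mem ha

theorem mem_Vf {i : Fin k} {p q : Fin n} {w : W} : w ∈ h.Vf i p q ↔ h.tr i p q w + w ∈ R := Iff.rfl

theorem ker_Vf {i : Fin k} {p q : Fin n} {w : W} (hw : e w = 0) : w ∈ h.Vf i p q := h.tr_R i p q hw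

/-- the membership depends on `e w` only -/
theorem Vf_of {i : Fin k} {p q : Fin n} {w w' : W} (hw : e w = e w') (h1 : w ∈ h.Vf i p q) : w' ∈ h.Vf i p q := by
  have h2 : e (w + w') = 0 := by rw [map_add, hw, ← map_add, addself, map_zero]
  have h3 := (h.Vf i p q).add_mem h1 (h.ker_Vf (i := i) (p := p) (q := q) h2)
  have h4 : w + (w + w') = w' := by linear_combination (norm := module) addself w
  rwa [h4] at h3

/-- (c1) -/
theorem comm_Vf {i : Fin k} {p q : Fin n} {A : Fin k → Equiv.Perm (Fin n)}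
    (hA : Pi.mulSingle i (Equiv.swap p q) * A = A * Pi.mulSingle i (Equiv.swap p q)) {v : W}
    (hv : e (h.tr i p q v) = e v) : v + h.L A v ∈ h.Vf i p q := by
  rw [mem_Vf]
  have hd : e (h.tr i p q v + v) = 0 := by rw [map_add, hv, ← map_add, addself, map_zero]
  have h1 : h.tr i p q (h.L A v) = h.L A (h.tr i p q v) := by
    change (h.L _ * h.L A) v = (h.L A * h.L _) v
    rw [← map_mul, hA, map_mul]
  have h2 := h.L_R A hd
  rw [map_add] at h2
  rw [map_add, h1]
  have h3 : h.tr i p q v + h.L A (h.tr i p q v) + (v + h.L A v) =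
      h.L A (h.tr i p q v) + h.L A v + (h.tr i p q v + v) := by abel
  rw [h3]; exact h2

/-- (c3) the pair `{p, q}` -/
theorem pq_Vf {i : Fin k} {p q r : Fin n} (hpq : p ≠ q) (hrp : r ≠ p) (hrq : r ≠ q) {v : W}
    (hv : e v = pr i p q) : v ∈ h.Vf i p q := by
  rw [mem_Vf]
  have hb : e (h.tr i p q v) = e v := by
    funext j x
    by_cases hj : j = i
    · subst hj
      rw [h.tr_e, hv, pr, Pi.single_eq_same, Pi.add_apply, Pi.add_apply]
      by_cases hx : x = p
      · subst hx
        rw [Equiv.swap_apply_left, Pi.single_eq_same, Pi.single_eq_same, Pi.single_eq_of_ne hpq,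
          Pi.single_eq_of_ne hpq.symm, add_comm]
      · by_cases hx2 : x = q
        · subst hx2
          rw [Equiv.swap_apply_right, Pi.single_eq_same, Pi.single_eq_same, Pi.single_eq_of_ne hpq,
            Pi.single_eq_of_ne hpq.symm, add_comm]
        · rw [Equiv.swap_apply_of_ne_of_ne hx hx2]
    · rw [h.tr_e_ne hj]
  have hd : e (h.tr i p q v + v) = 0 := by rw [map_add, hb, ← map_add, addself, map_zero]
  obtain ⟨d, hdd⟩ : ∃ d, d = h.tr i p q v + v := ⟨_, rfl⟩
  rw [← hdd] at hd ⊢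
  have ebv : h.tr i p q v = v + d := by rw [hdd]; linear_combination (norm := module) -addself v
  have r1 : ∀ w, h.tr i p q (h.tr i q r w) = h.tr i p r (h.tr i p q w) := by
    intro w
    change (h.L _ * h.L _) w = (h.L _ * h.L _) w
    rw [← map_mul, ← map_mul, ← Pi.mulSingle_mul, ← Pi.mulSingle_mul]
    have : Equiv.swap p q * Equiv.swap q r = Equiv.swap p r * Equiv.swap p q := by
      have h1 := Equiv.swap_mul_swap_mul_swap (x := q) (y := r) (z := p) hrq.symm hpq.symm
      rw [Equiv.swap_comm p q]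
      have h2 : Equiv.swap q p * Equiv.swap q r * Equiv.swap q p = Equiv.swap p r := by
        rw [Equiv.swap_comm q r]
        have := Equiv.mul_swap_eq_swap_mul (Equiv.swap q p) r q
        rw [this, Equiv.swap_apply_left, Equiv.swap_apply_of_ne_of_ne hrq hrp, mul_assoc, Equiv.swap_mul_self, mul_one,
          Equiv.swap_comm]
      rw [← h2, mul_assoc, Equiv.swap_mul_self, mul_one]
    rw [this]
  have r2 : ∀ w, h.tr i p q (h.tr i p r w) = h.tr i q r (h.tr i p q w) := by
    intro w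
    change (h.L _ * h.L _) w = (h.L _ * h.L _) w
    rw [← map_mul, ← map_mul, ← Pi.mulSingle_mul, ← Pi.mulSingle_mul]
    have : Equiv.swap p q * Equiv.swap p r = Equiv.swap q r * Equiv.swap p q := by
      rw [Equiv.mul_swap_eq_swap_mul (Equiv.swap p q) p r, Equiv.swap_apply_left,
        Equiv.swap_apply_of_ne_of_ne hrp hrq]
    rw [this]
  -- the sum of the three pairs
  have hs : e (v + h.tr i q r v + h.tr i p r v) = 0 := by
    funext j x
    rw [map_add, map_add, Pi.add_apply, Pi.add_apply, Pi.add_apply, Pi.add_apply]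
    by_cases hj : j = i
    · subst hj
      rw [h.tr_e, h.tr_e, hv, pr, Pi.single_eq_same]
      simp only [Pi.add_apply]
      have key : ∀ a b : Fin n, (Pi.single a 1 : Fin n → ZMod 2) b = if b = a then 1 else 0 := fun a b => by
        rw [Pi.single_apply]
      simp only [key, Pi.zero_apply]
      by_cases hx : x = p
      · subst hx
        rw [Equiv.swap_apply_left, Equiv.swap_apply_of_ne_of_ne hpq hrp.symm]
        simp [hpq, hrp, hrq]
        decide
      · by_cases hx2 : x = q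
        · subst hx2
          rw [Equiv.swap_apply_left, Equiv.swap_apply_of_ne_of_ne hpq.symm hrq.symm]
          simp [hpq.symm, hrp, hrq]
          decide
        · by_cases hx3 : x = r
          · subst hx3
            rw [Equiv.swap_apply_right, Equiv.swap_apply_right]
            simp [hpq, hpq.symm, hrp, hrq]
            decide
          · rw [Equiv.swap_apply_of_ne_of_ne hx2 hx3, Equiv.swap_apply_of_ne_of_ne hx hx3]
            simp [hx, hx2]
    · rw [h.tr_e_ne hj, h.tr_e_ne hj, hv, pr, Pi.single_eq_of_ne hj]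
      rfl
  have h1 := h.tr_R i p q hs
  rw [map_add, map_add, r1, r2, ebv, map_add, map_add] at h1
  have h2 := h.tr_R i q r hd
  have h3 := h.tr_R i p r hd
  have h4 := R.add_mem (R.add_mem h1 h2) h3
  have h5 : v + d + (h.tr i p r v + h.tr i p r d) + (h.tr i q r v + h.tr i q r d) + (v + h.tr i q r v + h.tr i p r v) +
      (h.tr i q r d + d) + (h.tr i p r d + d) = d := by
    linear_combination (norm := module) addself v + addself (h.tr i p r v) + addself (h.tr i q r v) +
      addself (h.tr i p r d) + addself (h.tr i q r d) + addself d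
  rwa [h5] at h4

/-- (c2) the pairs away from `{p, q}` -/
theorem pair_Vf (hn : 5 ≤ n) {i j : Fin k} {p q u s : Fin n} (hus : u ≠ s)
    (hj : j = i → (u ≠ p ∧ u ≠ q) ∧ (s ≠ p ∧ s ≠ q)) {w : W} (hw : e w = pr j u s) : w ∈ h.Vf i p q := by
  classical
  -- a third letter
  obtain ⟨r, hr⟩ : ∃ r : Fin n, r ∉ ({u, s, p, q} : Finset (Fin n)) := by
    by_contra hcon
    push Not at hcon
    have h1 : Fintype.card (Fin n) ≤ ({u, s, p, q} : Finset (Fin n)).card := by
      rw [← Finset.card_univ]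
      exact Finset.card_le_card fun x _ => hcon x
    rw [Fintype.card_fin] at h1
    have h2 : ({u, s, p, q} : Finset (Fin n)).card ≤ 4 := Finset.card_le_four
    omega
  simp only [Finset.mem_insert, Finset.mem_singleton, not_or] at hr
  obtain ⟨hru, hrs, hrp, hrq⟩ := hr
  obtain ⟨v, hv⟩ := h.surj (pr j r u) (pr_sum j r u)
  have key : ∀ a b : Fin n, (Pi.single a 1 : Fin n → ZMod 2) b = if b = a then 1 else 0 := fun a b => by
    rw [Pi.single_apply]
  -- `v` is fixed by `(p q)` modulo the kernel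
  have hb : e (h.tr i p q v) = e v := by
    funext j' x
    by_cases hj' : j' = i
    · subst hj'
      rw [h.tr_e, hv]
      by_cases hjj : j' = j
      · subst hjj
        obtain ⟨⟨a1, a2⟩, -⟩ := hj rfl
        rw [pr, Pi.single_eq_same]
        simp only [Pi.add_apply, key]
        by_cases hx : x = p
        · subst hx
          rw [Equiv.swap_apply_left, if_neg (Ne.symm hrq), if_neg a2.symm, if_neg (Ne.symm hrp), if_neg a1.symm]
        · by_cases hx2 : x = q
          · subst hx2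
            rw [Equiv.swap_apply_right, if_neg (Ne.symm hrq), if_neg a2.symm, if_neg (Ne.symm hrp), if_neg a1.symm]
          · rw [Equiv.swap_apply_of_ne_of_ne hx hx2]
      · rw [pr, Pi.single_eq_of_ne hjj]; rfl
    · rw [h.tr_e_ne hj']
  -- `(u s)` of the block `j` commutes with `(p q)` of the block `i`
  have hc : (Pi.mulSingle i (Equiv.swap p q) : Fin k → Equiv.Perm (Fin n)) * Pi.mulSingle j (Equiv.swap u s) =
      Pi.mulSingle j (Equiv.swap u s) * Pi.mulSingle i (Equiv.swap p q) := by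
    by_cases hji : j = i
    · subst hji
      obtain ⟨⟨a1, a2⟩, a3, a4⟩ := hj rfl
      rw [← Pi.mulSingle_mul, ← Pi.mulSingle_mul, Equiv.mul_swap_eq_swap_mul (Equiv.swap p q) u s,
        Equiv.swap_apply_of_ne_of_ne a1 a2, Equiv.swap_apply_of_ne_of_ne a3 a4]
    · funext j'
      rw [Pi.mul_apply, Pi.mul_apply]
      by_cases h1 : j' = i
      · subst h1
        rw [Pi.mulSingle_eq_of_ne (Ne.symm hji), mul_one, one_mul]
      · rw [Pi.mulSingle_eq_of_ne h1, mul_one, one_mul]
  have h1 := h.comm_Vf hc hb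
  refine h.Vf_of ?_ h1
  rw [hw]
  funext j' x
  rw [map_add, Pi.add_apply, Pi.add_apply]
  by_cases hjj : j' = j
  · subst hjj
    have e1 : e (h.L (Pi.mulSingle j' (Equiv.swap u s)) v) j' x = e v j' (Equiv.swap u s x) := h.tr_e j' u s v x
    rw [e1, hv, pr, pr, Pi.single_eq_same, Pi.single_eq_same]
    simp only [Pi.add_apply, key]
    by_cases hx : x = u
    · subst hx
      rw [Equiv.swap_apply_left, if_neg (Ne.symm hru), if_pos rfl, if_neg (Ne.symm hrs), if_neg (Ne.symm hus),
        if_neg hus]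
      decide
    · by_cases hx2 : x = s
      · subst hx2
        rw [Equiv.swap_apply_right, if_neg (Ne.symm hrs), if_neg (Ne.symm hus), if_neg (Ne.symm hru), if_pos rfl,
          if_pos rfl]
        decide
      · rw [Equiv.swap_apply_of_ne_of_ne hx hx2, if_neg hx, if_neg hx2]
        by_cases hx3 : x = r
        · rw [if_pos hx3]; decide
        · rw [if_neg hx3]; decide
  · have e1 : e (h.L (Pi.mulSingle j (Equiv.swap u s)) v) j' x = e v j' x := h.tr_e_ne hjj u s v x
    rw [e1, hv, pr, pr, Pi.single_eq_of_ne hjj, Pi.single_eq_of_ne hjj]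
    rfl

/-- vectors with `e w i p = e w i q = 0` -/
theorem zero_Vf (hn : 5 ≤ n) {i : Fin k} {p q : Fin n} {w : W} (hp : e w i p = 0) (hq : e w i q = 0) :
    w ∈ h.Vf i p q := by
  classical
  obtain ⟨r, hr⟩ : ∃ r : Fin n, r ∉ ({p, q} : Finset (Fin n)) := by
    by_contra hcon
    push Not at hcon
    have h1 : Fintype.card (Fin n) ≤ ({p, q} : Finset (Fin n)).card := by
      rw [← Finset.card_univ]
      exact Finset.card_le_card fun x _ => hcon x
    rw [Fintype.card_fin] at h1
    have h2 : ({p, q} : Finset (Fin n)).card ≤ 2 := Finset.card_le_two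
    omega
  simp only [Finset.mem_insert, Finset.mem_singleton, not_or] at hr
  have key : ∀ a b : Fin n, (Pi.single a 1 : Fin n → ZMod 2) b = if b = a then 1 else 0 := fun a b => by
    rw [Pi.single_apply]
  choose v hv using fun (j : Fin k) (x : Fin n) => h.surj (pr j r x) (pr_sum j r x)
  -- the sum
  have hsum : e w = e (∑ j, ∑ x, e w j x • v j x) := by
    rw [map_sum]
    funext j' x'
    rw [Finset.sum_apply, Finset.sum_apply]
    have e1 : ∀ j, e (∑ x, e w j x • v j x) j' x' = ∑ x, e w j x * pr j r x j' x' := by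
      intro j
      rw [map_sum, Finset.sum_apply, Finset.sum_apply]
      refine Finset.sum_congr rfl fun x _ => ?_
      rcases z2 (e w j x) with h0 | h0
      · rw [h0, zero_smul, map_zero, zero_mul]; rfl
      · rw [h0, one_smul, one_mul, hv]
    simp only [e1]
    rw [Finset.sum_eq_single j']
    · have e2 : ∀ x, e w j' x * pr j' r x j' x' =
          e w j' x * (if x' = r then 1 else 0) + if x = x' then e w j' x' else 0 := by
        intro x
        rw [pr, Pi.single_eq_same]
        simp only [Pi.add_apply, key]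
        by_cases hx : x = x'
        · subst hx; simp [mul_add]
        · rw [if_neg hx, if_neg (Ne.symm hx)]; simp
      simp only [e2]
      rw [Finset.sum_add_distrib, ← Finset.sum_mul, h.even, zero_mul, zero_add, Finset.sum_ite_eq']
      simp
    · intro j _ hj
      refine Finset.sum_eq_zero fun x _ => ?_
      rw [pr, Pi.single_eq_of_ne (Ne.symm hj), Pi.zero_apply, mul_zero]
    · intro hcon; exact absurd (Finset.mem_univ _) hcon
  refine h.Vf_of hsum.symm ?_
  refine AddSubgroup.sum_mem _ fun j _ => AddSubgroup.sum_mem _ fun x _ => ?_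
  rcases z2 (e w j x) with h0 | h0
  · rw [h0, zero_smul]; exact (h.Vf i p q).zero_mem
  · rw [h0, one_smul]
    by_cases hxr : r = x
    · refine h.ker_Vf ?_
      rw [hv, ← hxr, pr]
      funext j' x'
      have e3 : (Pi.single r 1 + Pi.single r 1 : Fin n → ZMod 2) = 0 := by
        funext z; exact CharTwo.add_self_eq_zero _
      rw [e3]
      simp
    · refine h.pair_Vf hn hxr (fun hj => ?_) (hv j x)
      subst hj
      refine ⟨⟨hr.1, hr.2⟩, ?_, ?_⟩
      · rintro rfl
        rw [hp] at h0; exact absurd h0 (by decide)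
      · rintro rfl
        rw [hq] at h0; exact absurd h0 (by decide)

/-- the transposition is a transvection -/
theorem eq_Vf (hn : 5 ≤ n) {i : Fin k} {p q : Fin n} (hpq : p ≠ q) {w : W} (hw : e w i p = e w i q) :
    w ∈ h.Vf i p q := by
  classical
  rcases z2 (e w i p) with h0 | h0
  · exact h.zero_Vf hn h0 (hw ▸ h0)
  · obtain ⟨r, hr⟩ : ∃ r : Fin n, r ∉ ({p, q} : Finset (Fin n)) := by
      by_contra hcon
      push Not at hcon
      have h1 : Fintype.card (Fin n) ≤ ({p, q} : Finset (Fin n)).card := by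
        rw [← Finset.card_univ]
        exact Finset.card_le_card fun x _ => hcon x
      rw [Fintype.card_fin] at h1
      have h2 : ({p, q} : Finset (Fin n)).card ≤ 2 := Finset.card_le_two
      omega
    simp only [Finset.mem_insert, Finset.mem_singleton, not_or] at hr
    obtain ⟨v, hv⟩ := h.surj (pr i p q) (pr_sum i p q)
    have h1 := h.pq_Vf hpq hr.1 hr.2 hv
    have ep : e (w + v) i p = 0 := by
      rw [map_add, Pi.add_apply, Pi.add_apply, h0, hv, pr, Pi.single_eq_same, Pi.add_apply, Pi.single_eq_same,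
        Pi.single_eq_of_ne hpq]
      decide
    have eq : e (w + v) i q = 0 := by
      rw [map_add, Pi.add_apply, Pi.add_apply, ← hw, h0, hv, pr, Pi.single_eq_same, Pi.add_apply, Pi.single_eq_same,
        Pi.single_eq_of_ne hpq.symm]
      decide
    have h2 := (h.Vf i p q).add_mem (h.zero_Vf hn ep eq) h1
    have h3 : w + v + v = w := by linear_combination (norm := module) addself v
    rwa [h3] at h2

theorem tr_sq (i : Fin k) (p q : Fin n) : h.tr i p q * h.tr i p q = 1 := by
  rw [tr, ← map_mul, ← Pi.mulSingle_mul, Equiv.swap_mul_self, Pi.mulSingle_one, map_one]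

/-- `⟨(p q)⟩` is exact -/
theorem ex_tr [Finite W] (hn : 5 ≤ n) (i : Fin k) {p q : Fin n} (hpq : p ≠ q) :
    MExR R (zpowers (h.tr i p q)) ∧ h.tr i p q ≠ 1 := by
  classical
  obtain ⟨r, hr⟩ : ∃ r : Fin n, r ∉ ({p, q} : Finset (Fin n)) := by
    by_contra hcon
    push Not at hcon
    have h1 : Fintype.card (Fin n) ≤ ({p, q} : Finset (Fin n)).card := by
      rw [← Finset.card_univ]
      exact Finset.card_le_card fun x _ => hcon x
    rw [Fintype.card_fin] at h1
    have h2 : ({p, q} : Finset (Fin n)).card ≤ 2 := Finset.card_le_two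
    omega
  simp only [Finset.mem_insert, Finset.mem_singleton, not_or] at hr
  obtain ⟨v, hv⟩ := h.surj (pr i p r) (pr_sum i p r)
  have evp : e v i p = 1 := by
    rw [hv, pr, Pi.single_eq_same, Pi.add_apply, Pi.single_eq_same, Pi.single_eq_of_ne (Ne.symm hr.1)]
    decide
  have evq : e v i q = 0 := by
    rw [hv, pr, Pi.single_eq_same, Pi.add_apply, Pi.single_eq_of_ne hpq.symm, Pi.single_eq_of_ne (Ne.symm hr.2)]
    decide
  have hne : h.tr i p q ≠ 1 := by
    intro h1
    have h2 := h.tr_e i p q v p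
    rw [h1, Equiv.swap_apply_left, evq] at h2
    change e v i p = 0 at h2
    rw [evp] at h2
    exact absurd h2 (by decide)
  refine ⟨?_, hne⟩
  -- the functional
  let f : W →+ ZMod 2 :=
    { toFun := fun w => e w i p + e w i q
      map_zero' := by rw [map_zero]; rfl
      map_add' := by
        intro a b
        rw [map_add]
        simp only [Pi.add_apply]
        ring }
  have hf : ∀ w, f w = e w i p + e w i q := fun w => rfl
  have hsurj : Function.Surjective f := by
    intro c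
    rcases z2 c with rfl | rfl
    · exact ⟨0, map_zero f⟩
    · exact ⟨v, by rw [hf, evp, evq]; decide⟩
  have hker : ∀ w, w ∈ f.ker ↔ w ∈ cmR R (zpowers (h.tr i p q)) := by
    intro w
    rw [AddMonoidHom.mem_ker, hf]
    constructor
    · intro h1
      have h2 : e w i p = e w i q := CharTwo.add_eq_zero.1 h1
      have h3 := h.eq_Vf hn hpq h2
      rw [mem_Vf] at h3
      intro b hb
      obtain ⟨m, rfl⟩ := mem_zpowers_iff.1 hb
      rcases Int.even_or_odd' m with ⟨c, rfl | rfl⟩
      · rw [zpow_mul]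
        have : h.tr i p q ^ (2 : ℤ) = 1 := by
          rw [show (2 : ℤ) = ((2 : ℕ) : ℤ) from rfl, zpow_natCast, pow_two]; exact h.tr_sq i p q
        rw [this, one_zpow]
        change w + w ∈ R
        rw [addself]; exact R.zero_mem
      · have : h.tr i p q ^ (2 * c + 1) = h.tr i p q := by
          rw [zpow_add, zpow_mul, zpow_one]
          have : h.tr i p q ^ (2 : ℤ) = 1 := by
            rw [show (2 : ℤ) = ((2 : ℕ) : ℤ) from rfl, zpow_natCast, pow_two]; exact h.tr_sq i p q
          rw [this, one_zpow, one_mul]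
        rw [this]
        exact h3
    · intro h1
      have h2 := h1 _ (mem_zpowers _)
      have h3 := h.toEk.e_R h2
      rw [map_add] at h3
      have h4 := congrFun (congrFun h3 i) p
      rw [Pi.add_apply, Pi.add_apply, h.tr_e, Equiv.swap_apply_left] at h4
      rw [add_comm]; exact h4
  have hc2 : Nat.card (zpowers (h.tr i p q)) = 2 := by
    rw [Nat.card_zpowers]
    exact orderOf_eq_prime (by rw [pow_two]; exact h.tr_sq i p q) hne
  have h1 : Nat.card f.ker * f.ker.index = Nat.card W := f.ker.card_mul_index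
  have h2 : f.ker.index = 2 := by
    rw [AddSubgroup.index_ker, AddMonoidHom.range_eq_top.2 hsurj]
    rw [AddSubgroup.card_top]
    exact Nat.card_zmod 2
  have h3 : Nat.card f.ker = Nat.card (cmR R (zpowers (h.tr i p q))) := Nat.card_congr (Equiv.subtypeEquivRight hker)
  rw [h2, h3] at h1
  unfold MExR
  rw [hc2, ← h1, mul_comm]

end SymW

end Cfsg.Agent.Omega.FOne.ActR

end

section


/-!
# (F1), the minimal parabolic case, abstract form over `p : W → M`

`X` acts on the elementary abelian 2-groups `W` and `M`, `p : W → M` is onto and equivariant, `X` is trivial on `ker p`,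
`C_W(T) ≤ ker p`.  An exact atom `B ≤ T` of order `≥ 4`: then `T` is in at least two maximal subgroups of `X`.
-/

set_option autoImplicit false
set_option linter.unusedSectionVars false

namespace Cfsg.Agent.Omega.FOne.ActR

open Subgroup
open Cfsg.Agent.Lib.SL2Mat Cfsg.Agent.Omega.NatPair Cfsg.Agent.Omega.FFBr
open Cfsg.Agent.Omega.FOne.Tvw (addself z2 ap_inv inv_ap)
open Cfsg.Agent.ClassTwoFusion.Quad (cv mem_cv)

universe u

/-- an elementary abelian 2-group as an `𝔽₂`-space -/
@[reducible] def modOf {W : Type*} [CommGroup W] (sq : ∀ w : W, w * w = 1) : Module (ZMod 2) (Additive W) :=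
  AddCommGroup.zmodModule (n := 2) fun x => by
    rw [two_smul]
    exact congrArg Additive.ofMul (sq (Additive.toMul x))

section phi

variable {X W : Type*} [Group X] [CommGroup W] [MulDistribMulAction X W] [Module (ZMod 2) (Additive W)]

/-- `X → GL(W)` -/
def phi (X W : Type*) [Group X] [CommGroup W] [MulDistribMulAction X W] [Module (ZMod 2) (Additive W)] :
    X →* (Additive W ≃ₗ[ZMod 2] Additive W) where
  toFun x :=
    { toFun := fun w => Additive.ofMul (x • Additive.toMul w)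
      map_add' := fun a b => congrArg Additive.ofMul (smul_mul' x (Additive.toMul a) (Additive.toMul b))
      map_smul' := by
        intro c w
        rcases z2 c with rfl | rfl
        · rw [zero_smul, RingHom.id_apply, zero_smul]
          exact congrArg Additive.ofMul (smul_one x)
        · rw [one_smul]
          change _ = (1 : ZMod 2) • _
          rw [one_smul]
      invFun := fun w => Additive.ofMul (x⁻¹ • Additive.toMul w)
      left_inv := fun w => congrArg Additive.ofMul (inv_smul_smul x (Additive.toMul w))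
      right_inv := fun w => congrArg Additive.ofMul (smul_inv_smul x (Additive.toMul w)) }
  map_one' := by
    ext w
    exact congrArg Additive.ofMul (one_smul X (Additive.toMul w))
  map_mul' a b := by
    ext w
    exact congrArg Additive.ofMul (mul_smul a b (Additive.toMul w))

theorem phi_apply (x : X) (w : W) : phi X W x (Additive.ofMul w) = Additive.ofMul (x • w) := rfl

end phi

/-- The abstract situation. -/
structure Sit {X M W : Type*} [Group X] [CommGroup M] [MulDistribMulAction X M] [CommGroup W] [MulDistribMulAction X W]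
    (T B : Subgroup X) (p : W →* M) : Prop where
  sq : ∀ w : W, w * w = 1
  eqv : ∀ (x : X) (w : W), p (x • w) = x • p w
  surj : Function.Surjective p
  ker : ∀ w : W, p w = 1 → ∀ x : X, x • w = w
  faith : ∀ x : X, (∀ m : M, x • m = m) → x = 1
  core : ∀ N : Subgroup X, N.Normal → IsPGroup 2 N → N = ⊥
  two : IsPGroup 2 T
  syl : ¬ 2 ∣ T.index
  fixT : ∀ w : W, (∀ t ∈ T, t • w = w) → p w = 1
  gen : ∀ U : Subgroup M, (∀ m : M, (∀ t ∈ T, t • m = m) → ∀ x : X, x • m ∈ U) → U = ⊤
  BT : B ≤ T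
  el : ∀ b ∈ B, b * b = 1
  four : 4 ≤ Nat.card B
  exact : (cv M (B : Set X)).index = Nat.card B
  atom : ∀ C : Subgroup X, C ≤ B → C ≠ ⊥ → C ≠ B → Nat.card C < (cv M (C : Set X)).index

namespace Sit

section

variable {X M W : Type*} [Group X] [CommGroup M] [MulDistribMulAction X M] [CommGroup W] [MulDistribMulAction X W]
  [Module (ZMod 2) (Additive W)] {T B : Subgroup X} {p : W →* M}

/-- `ker p` -/
def Rk (p : W →* M) : AddSubgroup (Additive W) := Subgroup.toAddSubgroup p.ker

theorem mem_Rk {w : W} : Additive.ofMul w ∈ Rk p ↔ p w = 1 := Iff.rfl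

variable (h : Sit T B p)
include h

theorem inj : Function.Injective (phi X W) := by
  rw [injective_iff_map_eq_one]
  intro x hx
  refine h.faith x fun m => ?_
  obtain ⟨w, rfl⟩ := h.surj m
  rw [← h.eqv]
  congr 1
  have := congrArg (fun g : Additive W ≃ₗ[ZMod 2] Additive W => g (Additive.ofMul w)) hx
  exact congrArg Additive.toMul this

/-- equality of images in `M` -/
theorem p_eq {a b : W} : p a = p b ↔ Additive.ofMul a + Additive.ofMul b ∈ Rk p := by
  rw [← ofMul_mul, mem_Rk, map_mul]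
  have h1 : p b * p b = 1 := by rw [← map_mul, h.sq, map_one]
  constructor
  · intro h2; rw [h2, h1]
  · intro h2
    exact mul_right_cancel (h2.trans h1.symm)

theorem baseR : BaseR (phi X W).range (Rk p) where
  fix := by
    rintro _ ⟨x, rfl⟩ r hr
    exact congrArg Additive.ofMul (h.ker (Additive.toMul r) hr x)
  faith := by
    rintro _ ⟨x, rfl⟩ hx
    have h1 : x = 1 := h.faith x fun m => by
      obtain ⟨w, rfl⟩ := h.surj m
      rw [← h.eqv, h.p_eq]
      exact hx (Additive.ofMul w)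
    rw [h1, map_one]
  core := by
    intro N hN hn h2
    have h1 := h.core (N.comap (phi X W)) ⟨fun n hnn g => by
      rw [mem_comap, map_mul, map_mul, map_inv]
      exact hn _ ⟨g, rfl⟩ _ hnn⟩ (h2.comap_of_injective _ h.inj)
    rw [eq_bot_iff]
    intro g hg
    obtain ⟨x, rfl⟩ := hN hg
    have h3 : x ∈ N.comap (phi X W) := hg
    rw [h1, mem_bot] at h3
    rw [h3, map_one]
    exact one_mem _

/-- a functional of `M` as a functional of `W` -/
def pull {E : Type*} [AddCommGroup E] (p : W →* M) (e : M → E) (he : ∀ v w, e (v * w) = e v + e w) :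
    Additive W →+ E :=
  AddMonoidHom.mk' (fun w => e (p (Additive.toMul w))) fun a b => by rw [toMul_add, map_mul, he]

omit h in
theorem kinv_odd (g : X) {v : M} (hv : v ∈ odd X M) : g • v ∈ odd X M := by
  intro x hx
  have h1 : (g⁻¹ * x * g) • v = v := hv _ (by
    have : orderOf (g⁻¹ * x * g) = orderOf x := by
      have e1 : (MulAut.conj g⁻¹) x = g⁻¹ * x * g := by simp
      rw [← e1]
      exact MulEquiv.orderOf_eq _ x
    rw [this]; exact hx)
  have h2 := congrArg (fun z => g • z) h1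
  simp only [smul_smul] at h2
  rw [smul_smul]
  have e2 : g * (g⁻¹ * x * g) = x * g := by group
  rw [e2] at h2
  exact h2

theorem ek_pull {E : Type*} [AddCommGroup E] {e : M → E} (he : ∀ v w, e (v * w) = e v + e w)
    (hker : ∀ v, e v = 0 ↔ v ∈ odd X M) : Ek (phi X W).range (Rk p) (pull p e he) where
  base := h.baseR
  eR := by
    intro r hr
    change e (p (Additive.toMul r)) = 0
    have h1 : p (Additive.toMul r) = 1 := hr
    rw [h1, hker]
    exact (odd X M).one_mem
  kinv := by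
    rintro _ ⟨x, rfl⟩ w hw
    change e (p (x • Additive.toMul w)) = 0
    change e (p (Additive.toMul w)) = 0 at hw
    rw [hker] at hw ⊢
    rw [h.eqv]
    exact kinv_odd x hw

theorem tr_of {E : Type*} [AddCommGroup E] {e : M → E} (he : ∀ v w, e (v * w) = e v + e w)
    (hker : ∀ v, e v = 0 ↔ v ∈ odd X M) {g : X} (hg : ∀ d ∈ odd X M, g • d = d) {w : Additive W}
    (hw : pull p e he w = 0) : phi X W g w + w ∈ Rk p := by
  have h1 := hg (p (Additive.toMul w)) ((hker _).1 hw)
  rw [← h.eqv, h.p_eq] at h1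
  exact h1

/-- the natural case -/
theorem natW_of {F : Type} [Field F] {k : ℕ} (n : AbsNat F T M k) :
    NatW (phi X W).range (Rk p) (T.map (phi X W)) (pull p n.e n.mul) where
  toEk := h.ek_pull n.mul n.ker
  TH := by
    rintro _ ⟨t, -, rfl⟩
    exact ⟨t, rfl⟩
  surj := by
    intro x
    obtain ⟨v, hv⟩ := n.surj x
    obtain ⟨w, rfl⟩ := h.surj v
    exact ⟨Additive.ofMul w, hv⟩
  lift := by
    intro A
    obtain ⟨g, h1, h2⟩ := n.lift A
    refine ⟨phi X W g, ⟨g, rfl⟩, fun w i => ?_, fun w hw => h.tr_of n.mul n.ker h2 hw⟩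
    have := h1 (p (Additive.toMul w)) i
    rw [← h.eqv] at this
    exact this
  norm := by
    rintro _ ⟨g, rfl⟩ _ ⟨x, rfl⟩ A hA'
    obtain ⟨B, hB⟩ := n.norm g x A (fun v i => by
      obtain ⟨w, rfl⟩ := h.surj v
      rw [← h.eqv]
      exact hA' (Additive.ofMul w) i)
    refine ⟨B, fun w i => ?_⟩
    rw [← map_mul, ← map_inv, ← map_mul]
    have := hB (p (Additive.toMul w)) i
    rw [← h.eqv] at this
    exact this
  line := by
    rintro _ ⟨t, ht, rfl⟩
    obtain ⟨σ, hσ⟩ := n.line t ht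
    refine ⟨σ, fun w i => ?_⟩
    have := hσ (p (Additive.toMul w)) i
    rw [← h.eqv] at this
    exact this
  unip := by
    intro b'
    obtain ⟨t, ht, h1, h2⟩ := n.unip b'
    refine ⟨phi X W t, ⟨t, ht, rfl⟩, fun w i => ?_, fun w hw => h.tr_of n.mul n.ker h2 hw⟩
    have := h1 (p (Additive.toMul w)) i
    rw [← h.eqv] at this
    exact this

/-- the symmetric case -/
theorem symW_of {k m : ℕ} (n : AbsSym T M k m) : SymW (phi X W).range (Rk p) (pull p n.e n.mul) where
  toEk := h.ek_pull n.mul n.ker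
  even := fun w i => n.even (p (Additive.toMul w)) i
  surj := by
    intro z hz
    obtain ⟨v, hv⟩ := n.surj z hz
    obtain ⟨w, rfl⟩ := h.surj v
    exact ⟨Additive.ofMul w, hv⟩
  lift := by
    intro τ
    obtain ⟨g, h1, h2⟩ := n.lift τ
    refine ⟨phi X W g, ⟨g, rfl⟩, fun w i x => ?_, fun w hw => h.tr_of n.mul n.ker h2 hw⟩
    have := h1 (p (Additive.toMul w)) i x
    rw [← h.eqv] at this
    exact this

/-- exactness -/
theorem index_cv [Finite W] {C : Subgroup X} (hC : MExR (Rk p) (C.map (phi X W))) :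
    (cv M (C : Set X)).index = Nat.card C := by
  classical
  have h1 := Subgroup.index_comap_of_surjective (cv M (C : Set X)) h.surj
  rw [← h1]
  have h2 : Nat.card ((cv M (C : Set X)).comap p) = Nat.card (cmR (Rk p) (C.map (phi X W))) := by
    refine Nat.card_congr (Equiv.subtypeEquiv Additive.ofMul fun w => ?_)
    rw [mem_comap, mem_cv]
    constructor
    · rintro h3 _ ⟨b, hb, rfl⟩
      have h4 := h3 b hb
      rw [← h.eqv, h.p_eq] at h4
      exact h4
    · intro h3 a ha
      rw [← h.eqv, h.p_eq]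
      exact h3 _ ⟨a, ha, rfl⟩
  have h3 : Nat.card ((cv M (C : Set X)).comap p) * ((cv M (C : Set X)).comap p).index = Nat.card W :=
    ((cv M (C : Set X)).comap p).card_mul_index
  rw [h2] at h3
  unfold MExR at hC
  have hpos : 0 < Nat.card (cmR (Rk p) (C.map (phi X W))) := by
    have : Finite (Additive W) := inferInstanceAs (Finite W)
    have : Nonempty (cmR (Rk p) (C.map (phi X W))) := ⟨⟨0, fun b _ => by
      rw [map_zero, add_zero]; exact (Rk p).zero_mem⟩⟩
    exact Nat.card_pos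
  have h4 : Nat.card (C.map (phi X W)) = Nat.card C :=
    (Nat.card_congr (C.equivMapOfInjective _ h.inj).toEquiv).symm
  have h5 : Nat.card (Additive W) = Nat.card W := rfl
  rw [h5, ← h3, h4, mul_comm] at hC
  exact (Nat.eq_of_mul_eq_mul_left hpos hC).symm

theorem Bne : B ≠ ⊥ := by
  intro hb
  have := h.four
  rw [hb, Subgroup.card_bot] at this
  omega

end

section

variable {X M : Type u} {W : Type*} [Group X] [Finite X] [CommGroup M] [Finite M] [MulDistribMulAction X M] [CommGroup W]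
  [Finite W] [MulDistribMulAction X W] {T B : Subgroup X} {p : W →* M}

/-- **nmax**, from the FF theorem -/
theorem nmax_of (hFF : AStmt.{u}) (h : Sit T B p) :
    ¬ ∃ N : Subgroup X, N ≠ ⊤ ∧ ∀ R : Subgroup X, T ≤ R → R ≠ ⊤ → R ≤ N := by
  classical
  rintro ⟨N, hN, hmax⟩
  let _ := modOf h.sq
  have hXne : ¬ ∀ x : X, x = 1 := fun hx => h.Bne (by
    rw [eq_bot_iff]; exact fun b _ => mem_bot.2 (hx b))
  have hTne : T ≠ ⊤ := by
    intro hT
    have h1 := h.core T (by rw [hT]; infer_instance) h.two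
    exact h.Bne (by rw [eq_bot_iff, ← h1]; exact h.BT)
  have hTN : T ≤ N := hmax T le_rfl hTne
  let S : Sylow 2 X := h.two.toSylow h.syl
  have abs : Abs X M S N :=
    { comm := fun v w => mul_comm v w
      sq := by
        intro v
        obtain ⟨w, rfl⟩ := h.surj v
        rw [← map_mul, h.sq, map_one]
      faith := h.faith
      core := h.core
      TM := hTN
      Mne := hN
      max := by
        intro K hK
        by_cases hKt : K = ⊤
        · exact Or.inr hKt
        · exact Or.inl (hmax K hK hKt)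
      gen := fun U hU => h.gen U fun m hm x => hU m hm x
      nfix := by
        by_contra hcon
        push Not at hcon
        apply hXne
        intro x
        refine h.faith x fun m => ?_
        let U : Subgroup M :=
          { carrier := {m | ∀ x : X, x • m = m}
            one_mem' := fun x => smul_one x
            mul_mem' := fun {a b} ha hb x => by rw [smul_mul', ha x, hb x]
            inv_mem' := fun {a} ha x => by rw [smul_inv', ha x] }
        have hU := h.gen U fun m hm x z => by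
          rw [hcon m hm x, hcon m hm z]
        have h1 : m ∈ U := by rw [hU]; exact mem_top _
        exact h1 x }
  have hoff : AOff M B :=
    { comm := by
        intro a ha b hb
        have h1 := h.el _ (B.mul_mem ha hb)
        have h2 : (a * b)⁻¹ = a * b := inv_eq_of_mul_eq_one_left h1
        rw [← h2, mul_inv_rev, inv_eq_of_mul_eq_one_left (h.el a ha), inv_eq_of_mul_eq_one_left (h.el b hb)]
      sq := h.el
      ne := h.Bne
      le := h.exact.le }
  obtain ⟨-, hC⟩ := hFF X M S N abs ⟨_, hoff⟩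
  have hS : (S : Subgroup X) = T := rfl
  rw [hS] at hC
  have hfinW : Finite (Additive W) := inferInstanceAs (Finite W)
  rcases hC with ⟨F, iF, fF, cF, k, hk, ⟨n⟩⟩ | ⟨k, m, hk, hm, ⟨n⟩⟩
  · have h1 := h.natW_of n
    have htwo : IsPGroup 2 (T.map (phi X W)) := h.two.map _
    have hsyl : ¬ 2 ∣ (T.map (phi X W)).relIndex (phi X W).range := by
      rw [MonoidHom.range_eq_map, Subgroup.relIndex_map_map_of_injective _ _ h.inj, relIndex_top_right]
      exact h.syl
    have hfix : ∀ w : Additive W, (∀ t ∈ T.map (phi X W), t w = w) → w ∈ Rk p := by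
      intro w hw
      exact h.fixT (Additive.toMul w) fun t ht => congrArg Additive.toMul (hw _ ⟨t, ht, rfl⟩)
    have hgen : ∀ U : Submodule (ZMod 2) (Additive W), (∀ r ∈ Rk p, r ∈ U) →
        (∀ w, (∀ t ∈ T.map (phi X W), t w + w ∈ Rk p) → ∀ x ∈ (phi X W).range, x w ∈ U) → U = ⊤ := by
      intro U hU1 hU2
      let U' : Subgroup M := (AddSubgroup.toSubgroup' U.toAddSubgroup).map p
      have h2 := h.gen U' fun m hm x => by
        obtain ⟨w, rfl⟩ := h.surj m
        refine ⟨x • w, ?_, h.eqv x w⟩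
        exact hU2 (Additive.ofMul w) (by
          rintro _ ⟨t, ht, rfl⟩
          have h3 := hm t ht
          rw [← h.eqv, h.p_eq] at h3
          exact h3) _ ⟨x, rfl⟩
      rw [eq_top_iff]
      intro w _
      have h3 : p (Additive.toMul w) ∈ U' := by rw [h2]; exact mem_top _
      obtain ⟨w', hw', hp⟩ := h3
      have h4 : Additive.ofMul w' + w ∈ Rk p := h.p_eq.1 hp
      have h5 : Additive.ofMul w' ∈ U := hw'
      have h6 := U.add_mem h5 (hU1 _ h4)
      have h7 : Additive.ofMul w' + (Additive.ofMul w' + w) = w := by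
        rw [← add_assoc, addself, zero_add]
      rwa [h7] at h6
    by_cases hν : ∃ ν : F, ν ≠ 0 ∧ ν ≠ 1
    · let _ := Fintype.ofFinite F
      exact h1.false_big hν hk htwo hsyl hfix hgen
    · push Not at hν
      exact h1.false_two (fun x => by
        by_cases hx : x = 0
        · exact Or.inl hx
        · exact Or.inr (hν x hx)) hk htwo hfix
  · have h1 := h.symW_of n
    obtain ⟨h2, h3⟩ := n.off B h.BT hoff
    obtain ⟨a, ha, ha1⟩ : ∃ a ∈ B, a ≠ 1 := by
      by_contra hcon
      push Not at hcon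
      exact h.Bne (by rw [eq_bot_iff]; exact fun x hx => mem_bot.2 (hcon x hx))
    obtain ⟨τ, hτ, hτ2⟩ := h3 a ha
    obtain ⟨i, x, hx⟩ : ∃ i x, τ i x ≠ x := by
      by_contra hcon
      push Not at hcon
      apply ha1
      apply h.inj
      rw [map_one]
      refine h1.toEk.uniq ⟨a, rfl⟩ (fun w => ?_) fun w hw => h.tr_of n.mul n.ker (h2 a ha) hw
      funext i x
      have h5 := hτ (p (Additive.toMul w)) i x
      rw [← h.eqv, hcon i x] at h5
      exact h5
    obtain ⟨-, b, hb, hb2⟩ := hτ2 i x hx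
    have hbe : phi X W b = h1.tr i x (τ i x) := by
      refine h1.eq_L ⟨b, rfl⟩ (fun w j z => ?_) fun w hw => h.tr_of n.mul n.ker (h2 b hb) hw
      have h5 := hb2 (p (Additive.toMul w)) j z
      rw [← h.eqv] at h5
      exact h5
    have hn : 5 ≤ 2 ^ m + 1 := by
      have : 2 ^ 2 ≤ 2 ^ m := Nat.pow_le_pow_right (by norm_num) hm
      omega
    obtain ⟨h6, h7⟩ := h1.ex_tr hn i (Ne.symm hx)
    rw [← hbe, ← MonoidHom.map_zpowers] at h6
    rw [← hbe] at h7
    have h8 : zpowers b ≤ B := zpowers_le.2 hb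
    have h9 := h.index_cv h6
    have h10 : Nat.card (zpowers b) ≤ 2 := by
      rw [Nat.card_zpowers]
      refine Nat.le_of_dvd (by norm_num) (orderOf_dvd_of_pow_eq_one ?_)
      rw [pow_two]; exact h.el _ hb
    have h11 := h.atom _ h8 (by
      intro h12
      apply h7
      rw [zpowers_eq_bot.1 h12, map_one]) (by
        intro h12
        have := h.four
        rw [← h12] at this
        omega)
    rw [h9] at h11
    exact lt_irrefl _ h11

end

end Sit

end Cfsg.Agent.Omega.FOne.ActR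

end

end
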